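import Mathlib
import Cfsg.Agent.Lib.Helper25.ACStmt

set_option autoImplicit false

namespace Cfsg.Agent.Lib.Helper20.ACNOEIGHTHAT

open Cfsg.Agent.Lib.Helper25.ACStmt

universe u

theorem main : NoEightHat.{u} := by
  intro Q _ _ huniq V hVn hV8 hnab hall x hx
  have hx8 : x ^ 8 = 1 := by rw [← hx]; exact pow_orderOf_eq_one x
  have hz1 : x ^ 4 ≠ 1 := pow_ne_one_of_lt_orderOf (by norm_num) (by rw [hx]; norm_num)
  have hz2 : orderOf (x ^ 4) = 2 := by
    haveI : Fact (Nat.Prime 2) := ⟨Nat.prime_two⟩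
    refine orderOf_eq_prime ?_ hz1
    rw [← pow_mul]; exact hx8
  have hii : x ^ 2 * x ^ 2 = x ^ 4 := by rw [← pow_add]
  have hzz : x ^ 4 * x ^ 4 = 1 := by rw [← pow_add]; exact hx8
  have hiV : x ^ 2 ∈ V := hall _ (by rw [← pow_mul]; exact hx8)
  have hix : x ^ 2 ∈ Subgroup.zpowers x := Subgroup.pow_mem _ (Subgroup.mem_zpowers x) 2
  have hzx : x ^ 4 ∈ Subgroup.zpowers x := Subgroup.pow_mem _ (Subgroup.mem_zpowers x) 4
  -- F1
  have F1 : ∀ v ∈ V, v ^ 4 = 1 := by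
    intro v hv
    have hdvd : orderOf v ∣ 8 := hV8 ▸ Subgroup.orderOf_dvd_natCard V hv
    have hne : orderOf v ≠ 8 := by
      intro h8
      have hle : Subgroup.zpowers v ≤ V := by rwa [Subgroup.zpowers_le]
      have hcard : Nat.card (Subgroup.zpowers v) = 8 := by rw [Nat.card_zpowers, h8]
      have heq : Subgroup.zpowers v = V :=
        Subgroup.eq_of_le_of_card_ge hle (by rw [hcard, hV8])
      obtain ⟨a, ha, b, hb, hab⟩ := hnab
      rw [← heq] at ha hb
      obtain ⟨m, rfl⟩ := Subgroup.mem_zpowers_iff.mp ha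
      obtain ⟨n, rfl⟩ := Subgroup.mem_zpowers_iff.mp hb
      exact hab (by rw [← zpow_add, ← zpow_add, add_comm])
    have h4 : orderOf v ∣ 4 := by
      obtain ⟨m, hm, hm'⟩ :=
        (Nat.dvd_prime_pow Nat.prime_two).mp (show orderOf v ∣ 2 ^ 3 from hdvd)
      interval_cases m
      · rw [hm']; norm_num
      · rw [hm']; norm_num
      · rw [hm']; norm_num
      · exact absurd (by rw [hm']; norm_num) hne
    exact orderOf_dvd_iff_pow_eq_one.mp h4
  have uniq : ∀ y : Q, y ^ 2 = 1 → y = 1 ∨ y = x ^ 4 := by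
    intro y hy
    by_cases h1 : y = 1
    · exact Or.inl h1
    · haveI : Fact (Nat.Prime 2) := ⟨Nat.prime_two⟩
      exact Or.inr (huniq y _ (orderOf_eq_prime hy h1) hz2)
  have G1 : ∀ v ∈ V, v = 1 ∨ v = x ^ 4 ∨ v ^ 2 = x ^ 4 := by
    intro v hv
    have h4 := F1 v hv
    have h22 : (v ^ 2) ^ 2 = 1 := by rw [← pow_mul]; exact h4
    rcases uniq _ h22 with h | h
    · rcases uniq v h with h' | h'
      · exact Or.inl h'
      · exact Or.inr (Or.inl h')
    · exact Or.inr (Or.inr h)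
  have L : ∀ v ∈ V, v ∉ Subgroup.zpowers x → v ^ 2 = x ^ 4 ∧ x ^ 2 * v * x ^ 2 = v := by
    intro v hv hvx
    have hv2 : v ^ 2 = x ^ 4 := by
      rcases G1 v hv with h | h | h
      · exact absurd (h ▸ one_mem _) hvx
      · exact absurd (h ▸ hzx) hvx
      · exact h
    have hvi : v * x ^ 2 ∈ V := V.mul_mem hv hiV
    have hvix : v * x ^ 2 ∉ Subgroup.zpowers x := fun h => hvx (by
      have := (Subgroup.zpowers x).mul_mem h (inv_mem hix)
      simpa using this)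
    have hvi2 : (v * x ^ 2) ^ 2 = x ^ 4 := by
      rcases G1 _ hvi with h | h | h
      · exact absurd (h ▸ one_mem _) hvix
      · exact absurd (h ▸ hzx) hvix
      · exact h
    refine ⟨hv2, ?_⟩
    have e1 : (v * x ^ 2) ^ 2 = v * (x ^ 2 * v * x ^ 2) := by rw [pow_two]; group
    have : v * (x ^ 2 * v * x ^ 2) = v * v := by
      rw [← e1, hvi2, ← hv2, pow_two]
    exact mul_left_cancel this
  -- choose j
  obtain ⟨j, hjV, hjx⟩ : ∃ j ∈ V, j ∉ Subgroup.zpowers x := by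
    obtain ⟨a, ha, b, hb, hab⟩ := hnab
    by_cases hax : a ∈ Subgroup.zpowers x
    · by_cases hbx : b ∈ Subgroup.zpowers x
      · exfalso
        obtain ⟨m, rfl⟩ := Subgroup.mem_zpowers_iff.mp hax
        obtain ⟨n, rfl⟩ := Subgroup.mem_zpowers_iff.mp hbx
        exact hab (by rw [← zpow_add, ← zpow_add, add_comm])
      · exact ⟨b, hb, hbx⟩
    · exact ⟨a, ha, hax⟩
  obtain ⟨hj2, hC⟩ := L j hjV hjx
  have hj'V : x⁻¹ * j * x ∈ V := by
    have := hVn.conj_mem j hjV x⁻¹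
    simpa using this
  have hj'x : x⁻¹ * j * x ∉ Subgroup.zpowers x := by
    intro h
    apply hjx
    have e : j = x * (x⁻¹ * j * x) * x⁻¹ := by group
    rw [e]
    exact mul_mem (mul_mem (Subgroup.mem_zpowers x) h) (inv_mem (Subgroup.mem_zpowers x))
  obtain ⟨hj'2, hB⟩ := L _ hj'V hj'x
  -- i does not commute with j
  have hnc : x ^ 2 * j ≠ j * x ^ 2 := by
    intro h
    rw [h] at hC
    have : j * (x ^ 2 * x ^ 2) = j * 1 := by rw [← mul_assoc, mul_one]; exact hC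
    have h1 := mul_left_cancel this
    rw [hii] at h1
    exact hz1 h1
  have hsV : x⁻¹ * j * x * j ∈ V := V.mul_mem hj'V hjV
  rcases G1 _ hsV with hs | hs | hs
  · -- x⁻¹ j x = j⁻¹
    have hj' : x⁻¹ * j * x = j⁻¹ := eq_inv_of_mul_eq_one_left hs
    have e1 : (x ^ 2)⁻¹ * j * x ^ 2 = x⁻¹ * (x⁻¹ * j * x) * x := by
      simp only [pow_two, mul_inv_rev, mul_assoc]
    have e2 : x⁻¹ * j⁻¹ * x = (x⁻¹ * j * x)⁻¹ := by
      simp only [mul_inv_rev, inv_inv, mul_assoc]
    rw [hj', e2, hj', inv_inv] at e1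
    apply hnc
    have := congrArg (fun t => x ^ 2 * t) e1
    simp only [mul_assoc, mul_inv_cancel_left] at this
    exact this.symm
  · -- x⁻¹ j x = j
    have hj' : x⁻¹ * j * x = j := by
      have : x⁻¹ * j * x * j = j * j := by rw [hs, ← hj2, pow_two]
      exact mul_right_cancel this
    have hxj : x * j = j * x := by
      have e : x * (x⁻¹ * j * x) = j * x := by group
      rw [hj'] at e
      exact e
    apply hnc
    have hc : Commute x j := hxj
    exact (hc.pow_left 2)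
  · -- (x j)^4 = 1
    have e1 : j * x ^ 2 = (x ^ 2)⁻¹ * j := by
      rw [eq_inv_mul_iff_mul_eq, ← mul_assoc]; exact hC
    have e2 : (x⁻¹ * j * x) * (x ^ 2)⁻¹ = x ^ 2 * (x⁻¹ * j * x) := by
      rw [mul_inv_eq_iff_eq_mul]; exact hB.symm
    have hcomm : Commute (x ^ 2) (x⁻¹ * j * x * j) := by
      show x ^ 2 * (x⁻¹ * j * x * j) = (x⁻¹ * j * x * j) * x ^ 2
      calc x ^ 2 * (x⁻¹ * j * x * j) = (x ^ 2 * (x⁻¹ * j * x)) * j := (mul_assoc _ _ _).symm
        _ = ((x⁻¹ * j * x) * (x ^ 2)⁻¹) * j := by rw [e2]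
        _ = (x⁻¹ * j * x) * ((x ^ 2)⁻¹ * j) := mul_assoc _ _ _
        _ = (x⁻¹ * j * x) * (j * x ^ 2) := by rw [e1]
        _ = (x⁻¹ * j * x * j) * x ^ 2 := (mul_assoc _ _ _).symm
    have e3 : (x * j) ^ 2 = x ^ 2 * (x⁻¹ * j * x * j) := by rw [pow_two]; group
    have e4 : (x * j) ^ 4 = 1 := by
      have : (x * j) ^ 4 = ((x * j) ^ 2) ^ 2 := by rw [← pow_mul]
      rw [this, e3, hcomm.mul_pow, hs, ← pow_mul, ← pow_add]
      exact hx8
    have hxjV : x * j ∈ V := hall _ e4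
    have hxV : x ∈ V := by
      have := V.mul_mem hxjV (V.inv_mem hjV)
      simpa using this
    exact hz1 (F1 x hxV)

end Cfsg.Agent.Lib.Helper20.ACNOEIGHTHAT
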