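import Mathlib
import Cfsg.Agent.Lib.Helper88.CNStmt
import Cfsg.Agent.Lib.Helper89.WNAUTX
import Cfsg.Agent.H85.Basic
import Cfsg.Agent.H85.Aut

set_option autoImplicit false

/-! S5155/FRATY: the Frattini clause for `D₀` in `F`. -/

namespace Cfsg.Agent.Lib.Helper20.CNFRATY

open Cfsg Cfsg.FusionSystem Cfsg.Agent.Lib.Helper88.CNStmt
open Cfsg.Agent.H85

universe u

variable {Ω : Type u} [Group Ω]

/-- a subgroup of `↥(R ⊔ X)` containing `R` and `X` is everything -/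
theorem mem_of_sup {R X : Subgroup Ω} (K : Subgroup ↥(R ⊔ X))
    (hR : ∀ u : R, Subgroup.inclusion le_sup_left u ∈ K)
    (hX : ∀ x : X, Subgroup.inclusion le_sup_right x ∈ K) (y : ↥(R ⊔ X)) : y ∈ K := by
  have h1 : R.subgroupOf (R ⊔ X) ≤ K := by
    intro y hy
    have h := hR ⟨y.1, Subgroup.mem_subgroupOf.mp hy⟩
    have e : Subgroup.inclusion (le_sup_left : R ≤ R ⊔ X) ⟨y.1, Subgroup.mem_subgroupOf.mp hy⟩ = y :=
      Subtype.ext rfl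
    rwa [e] at h
  have h2 : X.subgroupOf (R ⊔ X) ≤ K := by
    intro y hy
    have h := hX ⟨y.1, Subgroup.mem_subgroupOf.mp hy⟩
    have e : Subgroup.inclusion (le_sup_right : X ≤ R ⊔ X) ⟨y.1, Subgroup.mem_subgroupOf.mp hy⟩ = y :=
      Subtype.ext rfl
    rwa [e] at h
  have h3 : R.subgroupOf (R ⊔ X) ⊔ X.subgroupOf (R ⊔ X) = ⊤ := by
    rw [← Subgroup.subgroupOf_sup le_sup_left le_sup_right, Subgroup.subgroupOf_self]
  have h4 : (⊤ : Subgroup ↥(R ⊔ X)) ≤ K := h3 ▸ sup_le h1 h2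
  exact h4 (Subgroup.mem_top y)

/-- an `F`-map of `Q` into itself is an element of `Aut_F(Q)` -/
theorem exists_aut_of_hom {S : Subgroup Ω} (F : FusionSystem S) {Q : Subgroup Ω} [Finite Q]
    (hQS : Q ≤ S) (θ : Q →* Ω) (hθ : θ ∈ F.Hom Q) (hθQ : ∀ x, θ x ∈ Q) :
    ∃ a : MulAut Q, a ∈ F.autGroup Q ∧ ∀ x, ((a x : Q) : Ω) = θ x := by
  have hinj : Function.Injective (θ.codRestrict Q hθQ) := by
    intro x y hxy
    apply F.injective_of_mem hθ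
    exact congrArg (fun z : Q => (z : Ω)) hxy
  have hbij : Function.Bijective (θ.codRestrict Q hθQ) :=
    ⟨hinj, Finite.injective_iff_surjective.mp hinj⟩
  refine ⟨MulEquiv.ofBijective (θ.codRestrict Q hθQ) hbij, ?_, fun x => rfl⟩
  rw [mem_autGroup_iff F hQS]
  exact hom_congr F hθ (fun x => rfl)

theorem main (hExt : ExtOverT.{u}) : FrattiniY.{u} := by
  intro Ω _ S _ p _ hS F hF T hT Y hYC hY G hG D₀ hD₀ P hPY ψ hψ
  have hTS : T ≤ S := hT.1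
  have hYS : Y ≤ S := hY.1
  have hC₀S : centralizerIn S T ≤ S := inf_le_left
  have hTC₀S : T ⊔ centralizerIn S T ≤ S := sup_le hTS hC₀S
  haveI : Finite T := Finite.of_injective (Subgroup.inclusion hTS) (Subgroup.inclusion_injective _)
  haveI : Finite Y := Finite.of_injective (Subgroup.inclusion hYS) (Subgroup.inclusion_injective _)
  have hYle : Y ≤ T ⊔ centralizerIn S T := hYC.trans le_sup_right
  -- step 1: extend `ψ` over `T`
  obtain ⟨ψ', hψ', hψ'x⟩ := hExt p hS F hF T hT Y hYC hY P hPY ψ hψ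
  have hψY : ∀ x : P, ψ x ∈ Y := hY.2 P hPY ψ hψ
  -- step 2: `γ = ψ'|T`
  have hθ : ψ'.comp (Subgroup.inclusion (le_sup_left : T ≤ T ⊔ P)) ∈ F.Hom T :=
    restrict_mem F hψ' le_sup_left
  have hθT : ∀ t : T, ψ'.comp (Subgroup.inclusion (le_sup_left : T ≤ T ⊔ P)) t ∈ T :=
    hT.2 T le_rfl _ hθ
  obtain ⟨γ, hγ, hγx⟩ := exists_aut_of_hom F hTS _ hθ hθT
  -- step 3: extend `γ` to `T C₀`
  obtain ⟨β, hβ, hβx⟩ := Cfsg.Agent.Lib.Helper89.WNAUTX.main p hS F hF T hT γ hγ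
  have hβF := (mem_autGroup_iff F hTC₀S β).mp hβ
  have hβiF := (mem_autGroup_iff F hTC₀S β⁻¹).mp (inv_mem hβ)
  have hβY : ∀ y : ↥(T ⊔ centralizerIn S T), (y : Ω) ∈ Y →
      ((β y : ↥(T ⊔ centralizerIn S T)) : Ω) ∈ Y := by
    intro y hy
    exact hY.2 Y le_rfl _ (restrict_mem F hβF hYle) ⟨y, hy⟩
  have hβiY : ∀ y : ↥(T ⊔ centralizerIn S T), (y : Ω) ∈ Y →
      ((β⁻¹ y : ↥(T ⊔ centralizerIn S T)) : Ω) ∈ Y := by
    intro y hy
    exact hY.2 Y le_rfl _ (restrict_mem F hβiF hYle) ⟨y, hy⟩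
  obtain ⟨α₀, hα₀, hα₀x⟩ := exists_aut_of_hom F hYS _ (restrict_mem F hβF hYle)
    (fun y => hβY _ y.2)
  -- step 4: `φ₁ = β⁻¹ ψ` is a map of `G`
  have hψC : ∀ x : P, ψ x ∈ T ⊔ centralizerIn S T := fun x => hYle (hψY x)
  obtain ⟨φ₁, hφ₁def⟩ : ∃ φ₁ : P →* Ω, φ₁ =
      ((T ⊔ centralizerIn S T).subtype.comp (β⁻¹).toMonoidHom).comp
        (ψ.codRestrict (T ⊔ centralizerIn S T) hψC) := ⟨_, rfl⟩
  have hφ₁F : φ₁ ∈ F.Hom P := by rw [hφ₁def]; exact F.comp_mem hψ hβiF hψC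
  have hφ₁x : ∀ x : P, φ₁ x = ((β⁻¹ ⟨ψ x, hψC x⟩ : ↥(T ⊔ centralizerIn S T)) : Ω) := by
    intro x; rw [hφ₁def]; rfl
  have hψ'C : ∀ w : ↥(T ⊔ P), ψ' w ∈ T ⊔ centralizerIn S T := by
    intro w
    have hw := mem_of_sup ((T ⊔ centralizerIn S T).comap ψ')
      (fun t => by
        rw [Subgroup.mem_comap]
        exact Subgroup.mem_sup_left (hθT t))
      (fun x => by
        rw [Subgroup.mem_comap, hψ'x]
        exact hψC x) w
    exact hw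
  have hle : P ⊔ T ≤ T ⊔ P := sup_comm P T ▸ le_rfl
  have hψ'' : ψ'.comp (Subgroup.inclusion hle) ∈ F.Hom (P ⊔ T) := restrict_mem F hψ' hle
  have hψ''C : ∀ w : ↥(P ⊔ T), ψ'.comp (Subgroup.inclusion hle) w ∈ T ⊔ centralizerIn S T :=
    fun w => hψ'C _
  have hφ₁G : φ₁ ∈ G.Hom P := by
    rw [hG P]
    refine ⟨hφ₁F, hPY.trans hYC, fun x => ?_, ?_⟩
    · rw [hφ₁x]
      exact hYC (hβiY _ (hψY x))
    · refine ⟨_, F.comp_mem hψ'' hβiF hψ''C, fun x => ?_, fun t => ?_⟩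
      · rw [hφ₁x]
        show ((β⁻¹ ⟨ψ' (Subgroup.inclusion hle (Subgroup.inclusion le_sup_left x)), _⟩ :
          ↥(T ⊔ centralizerIn S T)) : Ω) = _
        have e : (⟨ψ' (Subgroup.inclusion hle (Subgroup.inclusion le_sup_left x)),
            hψ''C _⟩ : ↥(T ⊔ centralizerIn S T)) = ⟨ψ x, hψC x⟩ := by
          apply Subtype.ext
          exact hψ'x x
        rw [e]
      · show ((β⁻¹ ⟨ψ' (Subgroup.inclusion hle (Subgroup.inclusion le_sup_right t)), _⟩ :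
          ↥(T ⊔ centralizerIn S T)) : Ω) = t
        have e : (⟨ψ' (Subgroup.inclusion hle (Subgroup.inclusion le_sup_right t)),
            hψ''C _⟩ : ↥(T ⊔ centralizerIn S T)) = β (Subgroup.inclusion le_sup_left t) := by
          apply Subtype.ext
          rw [hβx t, hγx t]
          rfl
        rw [e, MulAut.inv_apply_self]
        rfl
  -- step 5: the Frattini clause of `D₀` in `G`
  obtain ⟨α', hα', φ₀, hφ₀, hfr⟩ := hD₀.2.2.2 P hPY φ₁ hφ₁G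
  have hα'F : α' ∈ F.autGroup Y := by
    have hmono : G.autGroup Y ≤ F.autGroup Y := by
      apply Subgroup.closure_mono
      intro a ha
      have ha' : Y.subtype.comp a.toMonoidHom ∈ G.Hom Y := ha
      rw [hG Y] at ha'
      exact ha'.1
    exact hmono hα'
  -- step 6
  refine ⟨α₀ * α', mul_mem hα₀ hα'F, φ₀, hφ₀, fun x hx => ?_⟩
  have h1 : ((α₀ (α' ⟨φ₀ x, hx⟩) : Y) : Ω)
      = ((β ⟨((α' ⟨φ₀ x, hx⟩ : Y) : Ω), hYle (α' ⟨φ₀ x, hx⟩).2⟩ : ↥(T ⊔ centralizerIn S T)) : Ω) :=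
    hα₀x _
  have h2 : (⟨((α' ⟨φ₀ x, hx⟩ : Y) : Ω), hYle (α' ⟨φ₀ x, hx⟩).2⟩ : ↥(T ⊔ centralizerIn S T))
      = β⁻¹ ⟨ψ x, hψC x⟩ := by
    apply Subtype.ext
    rw [← hφ₁x x]
    exact (hfr x hx).symm
  show ψ x = ((α₀ (α' ⟨φ₀ x, hx⟩) : Y) : Ω)
  rw [h1, h2, MulAut.apply_inv_self]

end Cfsg.Agent.Lib.Helper20.CNFRATY
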