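import Mathlib
import Cfsg.Prelude.Def_Characters
import Cfsg.Agent.Lib.Helper32.D8Stmt

/-!
# S3716 piece BBINV: `bb` of a class function is symmetric and conjugation invariant
-/

set_option autoImplicit false

namespace Cfsg.Agent.Lib.Helper20.D8BBINV

open Cfsg Cfsg.Agent.Lib.Helper32.D8Stmt

universe u

theorem main : BBINV.{u} := by
  intro G _ _ Θ hΘ u v k
  have hsym : ∀ u v : G, bb Θ u v = bb Θ v u := by
    intro u v
    unfold bb
    congr 1
    refine Fintype.sum_equiv (Equiv.inv G) _ _ (fun h => ?_)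
    simp only [Equiv.inv_apply, inv_inv]
    have h1 := hΘ (u * (h * v * h⁻¹)) (v * h⁻¹)
    rw [← h1]
    congr 1
    group
  have hright : ∀ u v k : G, bb Θ u (k * v * k⁻¹) = bb Θ u v := by
    intro u v k
    unfold bb
    congr 1
    refine Fintype.sum_equiv (Equiv.mulRight k) _ _ (fun h => ?_)
    simp only [Equiv.coe_mulRight]
    congr 1
    group
  refine ⟨hsym u v, ?_, hright u v k⟩
  rw [hsym, hright, hsym]

end Cfsg.Agent.Lib.Helper20.D8BBINV
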