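import Mathlib
import Cfsg.Prelude.Def_Characters
import Cfsg.Agent.Lib.Helper32.D8Stmt
import Cfsg.Agent.Lib.Helper20.D8Lin

/-!
# S3716 piece C2B
-/

set_option autoImplicit false

namespace Cfsg.Agent.Lib.Helper20.D8C2B

open Cfsg Cfsg.Agent.Lib.Helper32.D8Stmt Cfsg.Agent.Lib.Helper20.D8Lin

universe u

theorem main (hPAIR : PAIR.{u}) (hALGB : ALGB) : C2B.{u} := by
  intro G _ _ Θ1 Θ2 Θ3 Θ4 a w ca cw hB hca hcw hTab U σ hU hUt hσ m1 m2 m3 m4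
  obtain ⟨⟨h1aa, h1aw, h1ww⟩, ⟨h2aa, h2aw, h2ww⟩, ⟨h3aa, h3aw, h3ww⟩, ⟨h4aa, h4aw, h4ww⟩⟩ :=
    hTab
  have hn : (Nat.card G : ℂ) ≠ 0 := card_ne_zero
  have g1 : IsGeneralizedCharacter G (Θ1 - Θ4) := gc_sub hB.g1 hB.g4
  have g2 : IsGeneralizedCharacter G (Θ2 - Θ3) := gc_sub hB.g2 hB.g3
  have o1 : (Θ1 - Θ4) 1 = 0 := by simp only [Pi.sub_apply, hB.o1, hB.o4]; ring
  have o2 : (Θ2 - Θ3) 1 = 0 := by simp only [Pi.sub_apply, hB.o2, hB.o3]; ring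
  have a1 : (Θ1 - Θ4) a = 0 := by simp only [Pi.sub_apply, hB.a1, hB.a4]; ring
  have a2 : (Θ2 - Θ3) a = 0 := by simp only [Pi.sub_apply, hB.a2, hB.a3]; ring
  have w1 : (Θ1 - Θ4) w = 0 := by simp only [Pi.sub_apply, hB.w1, hB.w4]; ring
  have w2 : (Θ2 - Θ3) w = 0 := by simp only [Pi.sub_apply, hB.w2, hB.w3]; ring
  have n1 : classInner (Θ1 - Θ4) (Θ1 - Θ4) = 4 := by
    simp only [ci_sub_left, ci_sub_right, hB.n11, hB.n14, hB.n41, hB.n44]; norm_num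
  have n2 : classInner (Θ2 - Θ3) (Θ2 - Θ3) = 4 := by
    simp only [ci_sub_left, ci_sub_right, hB.n22, hB.n23, hB.n32, hB.n33]; norm_num
  have t1 : classInner (Θ1 - Θ4) (triv G) = 1 := by
    simp only [ci_sub_left, hB.t1, hB.t4]; ring
  have t2 : classInner (Θ2 - Θ3) (triv G) = -1 := by
    simp only [ci_sub_left, hB.t2, hB.t3]; ring
  have mΨ1 : classInner (Θ1 - Θ4) U = σ := by simp only [ci_sub_left, m1, m4]; ring
  have mΨ2 : classInner (Θ2 - Θ3) U = -σ := by simp only [ci_sub_left, m2, m3]; ring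
  have hσ' : (-σ = 1 ∨ -σ = -1) := by rcases hσ with rfl | rfl <;> norm_num
  have hσ0 : σ ≠ 0 := by rcases hσ with rfl | rfl <;> norm_num
  have hU1 : U 1 ≠ 0 := deg_ne_zero hU
  have q1 := hPAIR Θ1 (triv G) U 1 σ a w hB.g1 hB.o1 hB.n11 hB.a1 hB.w1 triv_irr hU
    (Ne.symm hUt) (Or.inl rfl) hσ hB.t1 m1
  have q3 := hPAIR Θ3 (triv G) U 1 σ a w hB.g3 hB.o3 hB.n33 hB.a3 hB.w3 triv_irr hU
    (Ne.symm hUt) (Or.inl rfl) hσ hB.t3 m3
  have p1 := hPAIR (Θ1 - Θ4) (triv G) U 1 σ a w g1 o1 n1 a1 w1 triv_irr hU (Ne.symm hUt)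
    (Or.inl rfl) hσ t1 mΨ1
  have p2 := hPAIR (Θ2 - Θ3) (triv G) U (-1) (-σ) a w g2 o2 n2 a2 w2 triv_irr hU (Ne.symm hUt)
    (Or.inr rfl) hσ' t2 mΨ2
  simp only [triv_apply] at q1 q3 p1 p2
  have e1 := pair_scale 8 0 1 ca cw (Nat.card G : ℂ) (σ * U 1) (1 + σ * U 1)
    (1 - U a / U 1) (1 - U w / U 1) (bb Θ1 a a) (bb Θ1 a w) (bb Θ1 w w)
    hca hcw hn
    (by rw [h1aa]) (by rw [h1aw]; ring) (by rw [h1ww]; ring) (by linear_combination q1)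
  have e2 := pair_scale (11 / 2) (3 / 2) (1 / 2) ca cw (Nat.card G : ℂ) (σ * U 1) (1 + σ * U 1)
    (1 - U a / U 1) (1 - U w / U 1) (bb Θ3 a a) (bb Θ3 a w) (bb Θ3 w w)
    hca hcw hn
    (by rw [h3aa]; ring) (by rw [h3aw]; ring) (by rw [h3ww]; ring) (by linear_combination q3)
  have e3 := pair_scale (5 / 2) (3 / 2) (1 / 2) ca cw (Nat.card G : ℂ) (σ * U 1) (1 + σ * U 1)
    (1 - U a / U 1) (1 - U w / U 1) (bb (Θ1 - Θ4) a a) (bb (Θ1 - Θ4) a w) (bb (Θ1 - Θ4) w w)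
    hca hcw hn
    (by simp only [bb_sub, h1aa, h4aa]; ring) (by simp only [bb_sub, h1aw, h4aw]; ring)
    (by simp only [bb_sub, h1ww, h4ww]; ring) (by linear_combination p1)
  have e4 := pair_scale (-7 / 2) (-3 / 2) (1 / 2) ca cw (Nat.card G : ℂ) (σ * U 1)
    (-(1 + σ * U 1))
    (1 - U a / U 1) (1 - U w / U 1) (bb (Θ2 - Θ3) a a) (bb (Θ2 - Θ3) a w) (bb (Θ2 - Θ3) w w)
    hca hcw hn
    (by simp only [bb_sub, h2aa, h3aa]; ring) (by simp only [bb_sub, h2aw, h3aw]; ring)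
    (by simp only [bb_sub, h2ww, h3ww]; ring) (by linear_combination p2)
  have hμ := hALGB ((1 - U a / U 1) / ca) ((1 - U w / U 1) / cw) (Nat.card G : ℂ) (σ * U 1)
    hn (mul_ne_zero hσ0 hU1)
    (by linear_combination e1) (by linear_combination 2 * e2) (by linear_combination 2 * e3)
    (by linear_combination 2 * e4)
  exact deg_eq_one_of hU hσ hμ

end Cfsg.Agent.Lib.Helper20.D8C2B
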