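import Mathlib
import Cfsg.Prelude.Def_Characters
import Cfsg.Agent.Lib.Helper32.D8Stmt
import Cfsg.Agent.Lib.Helper20.D8Lin

/-!
# S3716 piece CASE1: no fusion
-/

set_option autoImplicit false

namespace Cfsg.Agent.Lib.Helper20.D8CASE1

open Cfsg Cfsg.Agent.Lib.Helper32.D8Stmt Cfsg.Agent.Lib.Helper20.D8Lin

universe u

theorem main (hCN : COMMONNEG.{u}) (hPAIR : PAIR.{u}) : CASE1.{u} := by
  intro G _ _ Θ1 Θ2 Θ3 Θ4 a w ca cw hB hca hcw hTab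
  obtain ⟨⟨h1aa, h1aw, h1ww⟩, ⟨h2aa, h2aw, h2ww⟩, ⟨h3aa, h3aw, h3ww⟩, ⟨h4aa, h4aw, h4ww⟩⟩ :=
    hTab
  have hn : (Nat.card G : ℂ) ≠ 0 := card_ne_zero
  have g1 : IsGeneralizedCharacter G (Θ1 - Θ4) := gc_sub hB.g1 hB.g4
  have g2 : IsGeneralizedCharacter G (Θ2 - Θ3) := gc_sub hB.g2 hB.g3
  have o1 : (Θ1 - Θ4) 1 = 0 := by simp only [Pi.sub_apply, hB.o1, hB.o4]; ring
  have o2 : (Θ2 - Θ3) 1 = 0 := by simp only [Pi.sub_apply, hB.o2, hB.o3]; ring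
  have a1 : (Θ1 - Θ4) a = 0 := by simp only [Pi.sub_apply, hB.a1, hB.a4]; ring
  have a2 : (Θ2 - Θ3) a = 0 := by simp only [Pi.sub_apply, hB.a2, hB.a3]; ring
  have w1 : (Θ1 - Θ4) w = 0 := by simp only [Pi.sub_apply, hB.w1, hB.w4]; ring
  have w2 : (Θ2 - Θ3) w = 0 := by simp only [Pi.sub_apply, hB.w2, hB.w3]; ring
  have n1 : classInner (Θ1 - Θ4) (Θ1 - Θ4) = 4 := by
    simp only [ci_sub_left, ci_sub_right, hB.n11, hB.n14, hB.n41, hB.n44]; norm_num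
  have n2 : classInner (Θ2 - Θ3) (Θ2 - Θ3) = 4 := by
    simp only [ci_sub_left, ci_sub_right, hB.n22, hB.n23, hB.n32, hB.n33]; norm_num
  have t1 : classInner (Θ1 - Θ4) (triv G) = 1 := by
    simp only [ci_sub_left, hB.t1, hB.t4]; ring
  have t2 : classInner (Θ2 - Θ3) (triv G) = -1 := by
    simp only [ci_sub_left, hB.t2, hB.t3]; ring
  have n12 : classInner (Θ1 - Θ4) (Θ2 - Θ3) = -2 := by
    simp only [ci_sub_left, ci_sub_right, hB.n12, hB.n13, hB.n42, hB.n43]; norm_num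
  obtain ⟨U, hU, hUt, hUm⟩ := hCN (Θ1 - Θ4) (Θ2 - Θ3) g1 g2 o1 o2 n1 n2 t1 t2 n12
  obtain ⟨σ, hσ, m1, m2⟩ : ∃ σ : ℂ, (σ = 1 ∨ σ = -1) ∧ classInner (Θ1 - Θ4) U = σ ∧
      classInner (Θ2 - Θ3) U = -σ := by
    rcases hUm with ⟨h1, h2⟩ | ⟨h1, h2⟩
    · exact ⟨1, Or.inl rfl, h1, h2⟩
    · exact ⟨-1, Or.inr rfl, h1, by rw [h2]; norm_num⟩
  have hσ' : (-σ = 1 ∨ -σ = -1) := by rcases hσ with rfl | rfl <;> norm_num
  have p1 := hPAIR (Θ1 - Θ4) (triv G) U 1 σ a w g1 o1 n1 a1 w1 triv_irr hU (Ne.symm hUt)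
    (Or.inl rfl) hσ t1 m1
  have p2 := hPAIR (Θ2 - Θ3) (triv G) U (-1) (-σ) a w g2 o2 n2 a2 w2 triv_irr hU (Ne.symm hUt)
    (Or.inr rfl) hσ' t2 m2
  simp only [triv_apply] at p1 p2
  have e1 := pair_scale (-1 / 2) 0 (1 / 2) ca cw (Nat.card G : ℂ) (σ * U 1) (1 + σ * U 1)
    (1 - U a / U 1) (1 - U w / U 1) (bb (Θ1 - Θ4) a a) (bb (Θ1 - Θ4) a w) (bb (Θ1 - Θ4) w w)
    hca hcw hn
    (by simp only [bb_sub, h1aa, h4aa]; ring) (by simp only [bb_sub, h1aw, h4aw]; ring)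
    (by simp only [bb_sub, h1ww, h4ww]; ring) (by linear_combination p1)
  have e2 := pair_scale (-1 / 2) 0 (1 / 2) ca cw (Nat.card G : ℂ) (σ * U 1) (-(1 + σ * U 1))
    (1 - U a / U 1) (1 - U w / U 1) (bb (Θ2 - Θ3) a a) (bb (Θ2 - Θ3) a w) (bb (Θ2 - Θ3) w w)
    hca hcw hn
    (by simp only [bb_sub, h2aa, h3aa]; ring) (by simp only [bb_sub, h2aw, h3aw]; ring)
    (by simp only [bb_sub, h2ww, h3ww]; ring) (by linear_combination p2)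
  have hμ : σ * U 1 = -1 := by linear_combination 2 * (e1 - e2)
  exact ⟨U, hU, hUt, deg_eq_one_of hU hσ hμ⟩

end Cfsg.Agent.Lib.Helper20.D8CASE1
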