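import Mathlib
import Cfsg.Agent.Lib.Helper41.EMStmt
import Cfsg.Agent.Lib.Helper44.NegPairs
import Cfsg.Agent.Lib.Helper90.EPNEGSQFIXB1

set_option autoImplicit false

/-!
S5990, piece NEGSQFIXB1 (minus form): port of `Helper90.EPNEGSQFIXB1.main` through the form-free
`Helper90.EPNEGSQFIXB1.negsq_gen`.
-/

universe u

open scoped Matrix

namespace Cfsg.Agent.Lib.Helper20.EMNEGSQFIXB1

open Module QuadraticMap
open Cfsg.Agent.Lib.Helper45.OMiStmt (M)

theorem main : Cfsg.Agent.Lib.Helper41.EMStmt.NegSqFixB1.{u} := by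
  intro F _ _ a₀ b₀ hab hcard d x hx hxx W hnd hstab hW4
  classical
  have hodd : Fintype.card F % 2 = 1 := by omega
  have h2 : (2 : F) ≠ 0 := by
    intro h
    have hc := @ringChar.eq F _ 2 (CharTwo.of_one_ne_zero_of_two_eq_zero one_ne_zero h)
    have := FiniteField.even_card_iff_char_two.mp hc
    omega
  obtain ⟨Q, hQ⟩ : ∃ Q : QuadraticForm F (M d → F),
      Q = Cfsg.Agent.Lib.Helper44.NegPairs.minusQ (d - 1) F a₀ b₀ := ⟨_, rfl⟩
  have hQc : ∀ v, Q v = Cfsg.quadFormMinus (d - 1) F a₀ b₀ v := fun v => by rw [hQ]; rfl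
  have hpol : ∀ v w, polar Q v w = polar (Cfsg.quadFormMinus (d - 1) F a₀ b₀) v w :=
    fun v w => by rw [hQ]; rfl
  obtain ⟨g, hg⟩ : ∃ g : (M d → F) →ₗ[F] (M d → F),
      g = Matrix.toLin' (x : Matrix (M d) (M d) F) := ⟨_, rfl⟩
  have hgQ : ∀ v, Q (g v) = Q v := by
    intro v
    rw [hQc, hQc, hg, Matrix.toLin'_apply]
    exact hx v v
  have hgg : ∀ v, g (g v) = -v := by
    intro v
    rw [hg, Matrix.toLin'_apply, Matrix.toLin'_apply, Matrix.mulVec_mulVec, hxx,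
      Matrix.neg_mulVec, Matrix.one_mulVec]
  obtain ⟨n, hn⟩ : ∃ n, Module.finrank F ↥W = 4 * n := ⟨Module.finrank F ↥W / 4, by omega⟩
  obtain ⟨U, hUW, hts, hfr⟩ :=
    Cfsg.Agent.Lib.Helper90.EPNEGSQFIXB1.negsq_gen Q g h2 hodd hgQ hgg n W hn
    (fun w hw => by
      rw [hg]
      exact hstab (Submodule.mem_map_of_mem hw))
    (fun w hw hw0 => by
      obtain ⟨⟨y, hy, hyw⟩, -⟩ := hnd w hw hw0
      exact ⟨y, hy, by rw [hpol]; exact hyw⟩)
  exact ⟨U, hUW, fun u hu => by rw [← hQc]; exact hts u hu, hfr⟩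

end Cfsg.Agent.Lib.Helper20.EMNEGSQFIXB1
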