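import Mathlib
import Cfsg.Agent.Lib.Helper45.EOStmt

set_option autoImplicit false

/-! S2264/BNDAB: the arithmetic bound when there is a factor of type A or B. -/

namespace Cfsg.Agent.Lib.Helper20.EOBNDAB

open Cfsg.Agent.Lib.Helper45.EOStmt

theorem main : LcmA → LcmB → Clog → BoundAB := by
  rintro hA hB ⟨h1, h2, h3, h4⟩ q p r n DA DB ep em E d hp hr hq hDA hDB hd hn hne h2em hpar
  have hp2 : 2 ≤ p := hp.two_le
  have hpq : p ≤ q := by rw [hq]; exact Nat.le_self_pow (by omega) p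
  have hq2 : 2 ≤ q := by omega
  have hSA := hA q DA hq2 hDA
  have hSB := hB q DB hq2 hDB
  have hSApos : 0 < SA q DA := by
    rw [Nat.pos_iff_ne_zero, SA]
    intro h0
    rw [Finset.lcm_eq_zero_iff] at h0
    obtain ⟨a, ha, ha0⟩ := h0
    have : 1 < q ^ a := Nat.one_lt_pow (by have := hDA a ha; omega) (by omega)
    omega
  have hSBpos : 0 < SB q DB := by
    rw [Nat.pos_iff_ne_zero, SB]
    intro h0
    rw [Finset.lcm_eq_zero_iff] at h0
    obtain ⟨b, hb, hb0⟩ := h0
    omega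
  have hL : Nat.lcm (Nat.lcm (SA q DA) (SB q DB)) (sgn em) ≤ SA q DA * SB q DB := by
    have h0 : Nat.lcm (SA q DA) (SB q DB) ≤ SA q DA * SB q DB :=
      Nat.le_of_dvd (Nat.mul_pos hSApos hSBpos) (Nat.lcm_dvd_mul _ _)
    by_cases hem : em = 0
    · simpa [sgn, hem] using h0
    · have hp2' : p ≠ 2 := fun h => hem (h2em h)
      have hpodd : Odd p := hp.odd_of_ne_two hp2'
      have hqodd : Odd q := by rw [hq]; exact hpodd.pow
      have h2d : 2 ∣ Nat.lcm (SA q DA) (SB q DB) := by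
        rcases hne with h | h
        · obtain ⟨a, ha⟩ := Finset.nonempty_iff_ne_empty.mpr h
          have h2a : 2 ∣ q ^ a - 1 := by
            have : Odd (q ^ a) := hqodd.pow
            obtain ⟨k, hk⟩ := this
            exact ⟨k, by omega⟩
          have h3a : q ^ a - 1 ∣ SA q DA := Finset.dvd_lcm (f := fun a => q ^ a - 1) ha
          exact (h2a.trans h3a).trans (Nat.dvd_lcm_left _ _)
        · obtain ⟨b, hb⟩ := Finset.nonempty_iff_ne_empty.mpr h
          have h2b : 2 ∣ q ^ b + 1 := by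
            have : Odd (q ^ b) := hqodd.pow
            obtain ⟨k, hk⟩ := this
            exact ⟨k + 1, by omega⟩
          have h3b : q ^ b + 1 ∣ SB q DB := Finset.dvd_lcm (f := fun b => q ^ b + 1) hb
          exact (h2b.trans h3b).trans (Nat.dvd_lcm_right _ _)
      have : Nat.lcm (Nat.lcm (SA q DA) (SB q DB)) (sgn em) = Nat.lcm (SA q DA) (SB q DB) := by
        simp only [sgn, hem, if_false]
        exact Nat.dvd_antisymm (Nat.lcm_dvd (dvd_refl _) h2d) (Nat.dvd_lcm_left _ _)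
      rw [this]; exact h0
  -- the exponent of `p`
  obtain ⟨M, hM⟩ : ∃ M, M = DA.sum id + DB.sum id := ⟨_, rfl⟩
  obtain ⟨X, hX⟩ : ∃ X, X = max E (max ep em) := ⟨_, rfl⟩
  obtain ⟨c, hcdef⟩ : ∃ c, c = Nat.clog p X := ⟨_, rfl⟩
  have hn' : 2 * M + 2 * (d * (E - 1)) + ep + em ≤ n := by
    rw [hM]
    have : 2 * d * (E - 1) = 2 * (d * (E - 1)) := by ring
    omega
  have hc : M + c ≤ n / 2 := by
    by_cases hE2 : 2 ≤ E ∧ ep ≤ E ∧ em ≤ E
    · have hXE : X = E := by omega
      have hc1 := h1 p E hp2 hE2.1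
      have hdE : E - 1 ≤ d * (E - 1) := Nat.le_mul_of_pos_left _ hd
      rw [hcdef, hXE]
      omega
    · by_cases hX1 : X ≤ 1
      · have : c = 0 := by rw [hcdef]; exact Nat.clog_of_right_le_one hX1 p
        omega
      · have hXle : X ≤ ep + em := by omega
        rcases hpar with hev | hp2'
        · have := h2 p X hp2
          obtain ⟨k, hk⟩ := hev
          omega
        · have := h3 p X (by omega)
          omega
  have hKK : KK q p DA DB ep em E
      = Nat.lcm (Nat.lcm (SA q DA) (SB q DB)) (sgn em) * p ^ c := by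
    rw [hcdef, hX, KK]
  rw [hKK]
  have hpc : p ^ c ≤ q ^ (n / 2 - M) :=
    calc p ^ c ≤ q ^ c := Nat.pow_le_pow_left hpq c
      _ ≤ q ^ (n / 2 - M) := Nat.pow_le_pow_right (by omega) (by omega)
  calc (q - 1) * (Nat.lcm (Nat.lcm (SA q DA) (SB q DB)) (sgn em) * p ^ c)
      ≤ (q - 1) * (SA q DA * SB q DB * q ^ (n / 2 - M)) :=
        Nat.mul_le_mul_left _ (Nat.mul_le_mul hL hpc)
    _ = SA q DA * ((q - 1) * SB q DB) * q ^ (n / 2 - M) := by ring
    _ ≤ q ^ DA.sum id * q ^ (DB.sum id + 1) * q ^ (n / 2 - M) :=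
        Nat.mul_le_mul_right _ (Nat.mul_le_mul hSA hSB)
    _ = q ^ (n / 2 + 1) := by
        rw [← pow_add, ← pow_add]
        congr 1
        omega

end Cfsg.Agent.Lib.Helper20.EOBNDAB
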