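import Mathlib
import Cfsg.Agent.Lib.Helper45.EOStmt

set_option autoImplicit false

/-! S2264/BNDPM: the arithmetic bound when `μ = (X-1)^ep (X+1)^em`. -/

namespace Cfsg.Agent.Lib.Helper20.EOBNDPM

open Cfsg.Agent.Lib.Helper45.EOStmt

theorem pow_le_of_clog {q p r c k : ℕ} (hp : 2 ≤ p) (hr : 1 ≤ r) (hq : q = p ^ r) (hc : c ≤ k) :
    (q - 1) * p ^ c ≤ q ^ (k + 1) := by
  have hpq : p ≤ q := by rw [hq]; exact Nat.le_self_pow (by omega) p
  calc (q - 1) * p ^ c ≤ q * q ^ k := by
        apply Nat.mul_le_mul (Nat.sub_le _ _)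
        calc p ^ c ≤ q ^ c := Nat.pow_le_pow_left hpq c
          _ ≤ q ^ k := Nat.pow_le_pow_right (by omega) hc
    _ = q ^ (k + 1) := by ring

theorem main : Clog → BoundPM := by
  rintro ⟨h1, h2, h3, h4⟩ q p r n ep em E hp hr hq hE hn h2em hpar
  have hp2 : 2 ≤ p := hp.two_le
  have hpq : p ≤ q := by rw [hq]; exact Nat.le_self_pow (by omega) p
  have hSA : SA q ∅ = 1 := by simp [SA]
  have hSB : SB q ∅ = 1 := by simp [SB]
  -- single exponent bound
  have key : ∀ e, e ≤ n → Nat.clog p e ≤ n / 2 := by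
    intro e he
    rcases hpar with hev | ⟨hp2', _⟩
    · have := h2 p e hp2
      obtain ⟨k, hk⟩ := hev
      omega
    · have := h3 p e (by omega)
      omega
  by_cases hep : ep = 0
  · have : KP q p ∅ ∅ ep em E = p ^ Nat.clog p em := by simp [KP, hep]
    rw [this]
    exact pow_le_of_clog hp2 hr hq (key em (by omega))
  · by_cases hem : em = 0
    · have hmax : max E ep = ep := by omega
      have : KP q p ∅ ∅ ep em E = p ^ Nat.clog p ep := by
        simp only [KP, hep, KK, hSA, hSB, sgn, hem]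
        simp [hmax]
      rw [this]
      exact pow_le_of_clog hp2 hr hq (key ep (by omega))
    · have hp3 : 3 ≤ p := by
        have : p ≠ 2 := fun h => hem (h2em h)
        omega
      have hmax : max E (max ep em) ≤ n - 1 := by omega
      have hc : Nat.clog p (max E (max ep em)) ≤ n / 2 - 1 := by
        rcases hpar with hev | ⟨_, h7⟩
        · have := h3 p (max E (max ep em)) hp3
          obtain ⟨k, hk⟩ := hev
          omega
        · have := h4 p (n / 2) (max E (max ep em)) hp3 (by omega) (by omega)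
          omega
      have hKP : KP q p ∅ ∅ ep em E = 2 * p ^ Nat.clog p (max E (max ep em)) := by
        simp only [KP, hep, KK, hSA, hSB, sgn, hem]
        simp
      rw [hKP]
      obtain ⟨c, hcdef⟩ : ∃ c, c = Nat.clog p (max E (max ep em)) := ⟨_, rfl⟩
      rw [← hcdef] at hc ⊢
      have hn2 : 1 ≤ n / 2 := by omega
      obtain ⟨k, hk⟩ : ∃ k, n / 2 = k + 1 := ⟨n / 2 - 1, by omega⟩
      rw [hk]
      have hck : c ≤ k := by omega
      have hq2 : 2 ≤ q := by omega
      have h2q : (q - 1) * 2 ≤ q * q := by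
        have : 2 * q ≤ q * q := Nat.mul_le_mul_right q hq2
        have : (q - 1) * 2 ≤ 2 * q := by omega
        omega
      calc (q - 1) * (2 * p ^ c) = ((q - 1) * 2) * p ^ c := by ring
        _ ≤ (q * q) * q ^ k := by
            apply Nat.mul_le_mul h2q
            calc p ^ c ≤ q ^ c := Nat.pow_le_pow_left hpq c
              _ ≤ q ^ k := Nat.pow_le_pow_right (by omega) hck
        _ = q ^ (k + 1 + 1) := by ring

end Cfsg.Agent.Lib.Helper20.EOBNDPM
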