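import Mathlib
import Cfsg.Agent.Lib.Helper45.EOStmt

set_option autoImplicit false

/-! S2264/COMB: split off the powers of `X - 1` and `X + 1` from a reciprocal polynomial. -/

namespace Cfsg.Agent.Lib.Helper20.EOCOMB

open Polynomial
open Cfsg.Agent.Lib.Helper45.EOStmt

universe u

variable {K : Type u} [Field K]

theorem rev_X : (X : K[X]).reverse = 1 := by
  calc (X : K[X]).reverse = (C (1 : K) * X).reverse := by simp
    _ = (C (1 : K)).reverse := reverse_mul_X _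
    _ = 1 := by rw [reverse_C, C_1]

theorem rev_X_sub_one : (X - 1 : K[X]).reverse = -(X - 1) := by
  have : (X - 1 : K[X]) = X + C (-1) := by simp [sub_eq_add_neg]
  rw [this, reverse_add_C, rev_X, natDegree_X, C_neg, C_1]
  ring

theorem rev_X_add_one : (X + 1 : K[X]).reverse = X + 1 := by
  have : (X + 1 : K[X]) = X + C 1 := by rw [C_1]
  rw [this, reverse_add_C, rev_X, natDegree_X, C_1]
  ring

theorem rev_pow (f : K[X]) (n : ℕ) : (f ^ n).reverse = f.reverse ^ n := by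
  induction n with
  | zero =>
    rw [pow_zero, pow_zero, ← C_1, reverse_C]
  | succ n ih => rw [pow_succ, reverse_mul_of_domain, ih, pow_succ]

theorem rc_split {μ ν : K[X]} {ep em : ℕ} (hμ : μ ≠ 0)
    (h : μ = (X - 1) ^ ep * (X + 1) ^ em * ν) (hrc : RC μ) : RC ν := by
  obtain ⟨c, hc, hrev⟩ := hrc
  have hne : ((X - 1 : K[X]) ^ ep * (X + 1) ^ em) ≠ 0 := by
    intro h0; rw [h0, zero_mul] at h; exact hμ h
  refine ⟨(-1) ^ ep * c, mul_ne_zero (pow_ne_zero _ (by simp)) hc, ?_⟩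
  have h1 : μ.reverse = (-1) ^ ep * ((X - 1 : K[X]) ^ ep * (X + 1) ^ em) * ν.reverse := by
    rw [h, reverse_mul_of_domain, reverse_mul_of_domain, rev_pow, rev_pow, rev_X_sub_one,
      rev_X_add_one, neg_pow]
    ring
  rw [h1, h] at hrev
  have h2 : ((X - 1 : K[X]) ^ ep * (X + 1) ^ em) * ((-1) ^ ep * ν.reverse)
      = ((X - 1 : K[X]) ^ ep * (X + 1) ^ em) * (C c * ν) := by
    linear_combination hrev
  have h3 := mul_left_cancel₀ hne h2
  have h4 : ((-1 : K[X]) ^ ep) * ((-1) ^ ep) = 1 := by rw [← mul_pow]; simp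
  calc ν.reverse = ((-1 : K[X]) ^ ep * (-1) ^ ep) * ν.reverse := by rw [h4, one_mul]
    _ = (-1) ^ ep * ((-1) ^ ep * ν.reverse) := by ring
    _ = (-1) ^ ep * (C c * ν) := by rw [h3]
    _ = C ((-1) ^ ep * c) * ν := by
        rw [C_mul, C_pow, C_neg, C_1]; ring

theorem split (p : ℕ) [Fact p.Prime] [CharP K p] (μ : K[X]) (hμ : μ ≠ 0) :
    ∃ (ep em : ℕ) (ν : K[X]), μ = (X - 1) ^ ep * (X + 1) ^ em * ν ∧ IsCoprime ν (X - 1) ∧
      IsCoprime ν (X + 1) ∧ (p = 2 → em = 0) ∧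
      IsCoprime ((X - 1 : K[X]) ^ ep) ((X + 1) ^ em) := by
  obtain ⟨μ₁, h1, hnd1⟩ := exists_eq_pow_rootMultiplicity_mul_and_not_dvd μ hμ 1
  rw [C_1] at h1 hnd1
  have hμ₁ : μ₁ ≠ 0 := by rintro rfl; rw [mul_zero] at h1; exact hμ h1
  have hirr1 : Irreducible (X - 1 : K[X]) := by
    have := irreducible_X_sub_C (1 : K); rwa [C_1] at this
  by_cases hp : p = 2
  · refine ⟨μ.rootMultiplicity 1, 0, μ₁, by rw [pow_zero, mul_one]; exact h1, ?_, ?_,
      fun _ => rfl, by rw [pow_zero]; exact isCoprime_one_right⟩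
    · exact (hirr1.coprime_iff_not_dvd.mpr hnd1).symm
    · have : (X + 1 : K[X]) = X - 1 := by
        subst hp
        have h11 : (1 : K) = -1 := (CharTwo.neg_eq (1 : K)).symm
        calc (X + 1 : K[X]) = X + C (1 : K) := by simp
          _ = X + C (-1 : K) := by rw [← h11]
          _ = X - 1 := by simp [sub_eq_add_neg]
      rw [this]; exact (hirr1.coprime_iff_not_dvd.mpr hnd1).symm
  · obtain ⟨ν, h2, hnd2⟩ := exists_eq_pow_rootMultiplicity_mul_and_not_dvd μ₁ hμ₁ (-1)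
    have hX1 : (X - C (-1) : K[X]) = X + 1 := by simp
    rw [hX1] at h2 hnd2
    have hirr2 : Irreducible (X + 1 : K[X]) := by
      have := irreducible_X_sub_C (-1 : K); rwa [hX1] at this
    refine ⟨μ.rootMultiplicity 1, μ₁.rootMultiplicity (-1), ν, ?_, ?_, ?_,
      fun h => absurd h hp, ?_⟩
    · rw [mul_assoc, ← h2]; exact h1
    · apply (hirr1.coprime_iff_not_dvd.mpr _).symm
      intro hd
      apply hnd1
      rw [h2]; exact dvd_mul_of_dvd_right hd _
    · exact (hirr2.coprime_iff_not_dvd.mpr hnd2).symm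
    · apply IsCoprime.pow
      have h2ne : (2 : K) ≠ 0 := by
        intro h20
        have h := (CharP.cast_eq_zero_iff K p 2).mp (by exact_mod_cast h20)
        exact hp ((Nat.prime_dvd_prime_iff_eq (Fact.out : p.Prime) Nat.prime_two).mp h)
      refine ⟨-C (2⁻¹ : K), C (2⁻¹ : K), ?_⟩
      have h2 : (C (2⁻¹ : K) * 2 : K[X]) = 1 := by
        have : (2 : K[X]) = C 2 := (C_ofNat 2).symm
        rw [this, ← C_mul, inv_mul_cancel₀ h2ne, C_1]
      linear_combination h2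

theorem main : AB.{u} → Pwr.{u} → PwrNeg.{u} → Dvd.{u} := by
  intro hAB hPwr hPwrNeg K _ _ p _ _ μ hμ hrc hc0
  obtain ⟨ep, em, ν, hsplit, hcop1, hcop2, hp2em, hcop12⟩ := split p μ hμ
  have hν : ν ≠ 0 := by rintro rfl; rw [mul_zero] at hsplit; exact hμ hsplit
  have hνrc : RC ν := rc_split hμ hsplit hrc
  have hνc0 : ν.coeff 0 ≠ 0 := by
    intro h0; apply hc0; rw [hsplit, mul_coeff_zero, h0, mul_zero]
  obtain ⟨DA, DB, E, d, hDA, hDB, hd, hdeg, hunit, hdvd⟩ := hAB K p ν hν hνrc hνc0 hcop1 hcop2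
  have hpp : p.Prime := Fact.out
  obtain ⟨q, hq⟩ : ∃ q, q = Fintype.card K := ⟨_, rfl⟩
  rw [← hq] at hdvd
  refine ⟨DA, DB, ep, em, E, d, hDA, hDB, hd, ?_, ?_, hp2em, ?_, ?_⟩
  · -- degree
    have hX1 : (X - 1 : K[X]).natDegree = 1 := by rw [← C_1]; exact natDegree_X_sub_C 1
    have hX2 : (X + 1 : K[X]).natDegree = 1 := by rw [← C_1]; exact natDegree_X_add_C 1
    have hX1ne : (X - 1 : K[X]) ≠ 0 := by intro h; rw [h] at hX1; simp at hX1
    have hX2ne : (X + 1 : K[X]) ≠ 0 := by intro h; rw [h] at hX2; simp at hX2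
    have : μ.natDegree = ep + em + ν.natDegree := by
      rw [hsplit, natDegree_mul (mul_ne_zero (pow_ne_zero _ hX1ne) (pow_ne_zero _ hX2ne)) hν,
        natDegree_mul (pow_ne_zero _ hX1ne) (pow_ne_zero _ hX2ne), natDegree_pow, natDegree_pow,
        hX1, hX2]
      ring
    omega
  · intro h1 h2; have := (hunit h1 h2).1; omega
  · -- divisibility
    rw [← hq]
    obtain ⟨C', hC'⟩ : ∃ C', C' = Nat.clog p (max E (max ep em)) := ⟨_, rfl⟩
    obtain ⟨L, hL⟩ : ∃ L, L = Nat.lcm (Nat.lcm (SA q DA) (SB q DB)) (sgn em) := ⟨_, rfl⟩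
    have hKK : KK q p DA DB ep em E = L * p ^ C' := by rw [KK, hL, hC']
    rw [hKK]
    have hle : ∀ x, x ≤ max E (max ep em) → x ≤ p ^ C' := by
      intro x hx; rw [hC']; exact hx.trans (Nat.le_pow_clog hpp.one_lt _)
    have hdvd_of : ∀ s : ℕ, s ∣ L * p ^ C' → (X ^ s - 1 : K[X]) ∣ X ^ (L * p ^ C') - 1 := by
      rintro s ⟨t, ht⟩
      rw [ht, pow_mul]
      simpa using sub_dvd_pow_sub_pow (X ^ s : K[X]) 1 t
    have d1 : (X - 1 : K[X]) ^ ep ∣ X ^ (L * p ^ C') - 1 := by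
      have := hPwr K p (X - 1) 1 ep C' (by simp) (hle ep (by omega))
      exact this.trans (hdvd_of _ (by rw [one_mul]; exact dvd_mul_left _ _))
    have d2 : (X + 1 : K[X]) ^ em ∣ X ^ (L * p ^ C') - 1 := by
      by_cases hem : em = 0
      · rw [hem, pow_zero]; exact one_dvd _
      · have hX : (X + 1 : K[X]) ∣ X ^ 2 - 1 := ⟨X - 1, by ring⟩
        have := hPwr K p (X + 1) 2 em C' hX (hle em (by omega))
        have h2L : 2 ∣ L := by
          rw [hL]
          have : sgn em = 2 := by simp [sgn, hem]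
          rw [this]; exact Nat.dvd_lcm_right _ _
        exact this.trans (hdvd_of _ (Nat.mul_dvd_mul_right h2L _))
    have d3 : ν ∣ X ^ (L * p ^ C') - 1 := by
      apply hdvd.trans
      apply hdvd_of
      apply Nat.mul_dvd_mul
      · rw [hL]; exact Nat.dvd_lcm_left _ _
      · apply pow_dvd_pow; rw [hC']; exact Nat.clog_mono_right p (le_max_left _ _)
    rw [hsplit]
    apply IsCoprime.mul_dvd _ (IsCoprime.mul_dvd hcop12 d1 d2) d3
    exact IsCoprime.mul_left (hcop1.symm.pow_left) (hcop2.symm.pow_left)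
  · intro h1 h2 h3
    have hu := (hunit h1 h2).2
    rw [hsplit, h3, pow_zero, one_mul]
    have := hPwrNeg K p em (Nat.clog p em) (Nat.le_pow_clog hpp.one_lt _)
    exact (hu.mul_right_dvd).mpr this

end Cfsg.Agent.Lib.Helper20.EOCOMB
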