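import Mathlib
import Cfsg.Agent.Lib.Helper45.EPStmt
import Cfsg.Agent.Lib.Helper44.TPStmt

set_option autoImplicit false

/-!
S5988, piece NEGSQFIXA: `q ≡ 1 (mod 4)`, `x` an isometry of the standard plus form with
`x * x = -1`: every invariant nondegenerate `W` is of plus type.
-/

universe u

open scoped Matrix

namespace Cfsg.Agent.Lib.Helper20.EPNEGSQFIXA

open Cfsg Cfsg.Agent.Lib.Helper45.EPStmt
open Cfsg.Agent.Lib.Helper94.OPStmt (P NP FxP NDegP StabP)

/-- the form is homogeneous of degree two -/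
theorem q_smul (d : ℕ) (F : Type u) [Field F] (c : F) (v : P d → F) :
    Cfsg.quadFormPlus d F (c • v) = c * c * Cfsg.quadFormPlus d F v := by
  unfold Cfsg.quadFormPlus
  rw [Finset.mul_sum]
  apply Finset.sum_congr rfl
  intro i _
  simp only [Pi.smul_apply, smul_eq_mul]
  ring

/-- the eigenspace of `M` for `c` -/
def eig {F : Type u} [Field F] {d : ℕ} (M : Matrix (P d) (P d) F) (c : F) :
    Submodule F (P d → F) where
  carrier := {v | M *ᵥ v = c • v}
  add_mem' := by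
    intro a b ha hb
    simp only [Set.mem_ofPred_eq] at ha hb ⊢
    rw [Matrix.mulVec_add, ha, hb, smul_add]
  zero_mem' := by
    simp
  smul_mem' := by
    intro t a ha
    simp only [Set.mem_ofPred_eq] at ha ⊢
    rw [Matrix.mulVec_smul, ha, smul_comm]

theorem mem_eig {F : Type u} [Field F] {d : ℕ} (M : Matrix (P d) (P d) F) (c : F)
    (v : P d → F) : v ∈ eig M c ↔ M *ᵥ v = c • v := Iff.rfl

/-- an eigenspace for a square root of `-1` of an isometry is totally singular (odd `q`) -/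
theorem eig_ts {F : Type u} [Field F] {d : ℕ} (h2 : (2 : F) ≠ 0)
    (M : Matrix (P d) (P d) F)
    (hM : ∀ v : P d → F, Cfsg.quadFormPlus d F (M *ᵥ v) = Cfsg.quadFormPlus d F v)
    (c : F) (hc : c * c = -1) : ∀ v ∈ eig M c, Cfsg.quadFormPlus d F v = 0 := by
  intro v hv
  rw [mem_eig] at hv
  have h1 := hM v
  rw [hv, q_smul, hc] at h1
  have h3 : (2 : F) * Cfsg.quadFormPlus d F v = 0 := by linear_combination -h1
  rcases mul_eq_zero.mp h3 with h | h
  · exact absurd h h2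
  · exact h

theorem main (hHalf : Cfsg.Agent.Lib.Helper44.TPStmt.TsHalf.{u}) : NegSqFixA.{u} := by
  intro F _ _ hq d x hx hx2 W hW hSt
  classical
  have hsq : IsSquare (-1 : F) := by
    rw [FiniteField.isSquare_neg_one_iff]
    omega
  obtain ⟨ι, hι⟩ := hsq
  have hιι : ι * ι = -1 := hι.symm
  have h2 : (2 : F) ≠ 0 := by
    apply Ring.two_ne_zero
    intro h
    have := FiniteField.even_card_iff_char_two.mp h
    omega
  set M : Matrix (P d) (P d) F := (x : Matrix (P d) (P d) F) with hMdef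
  have hMMv : ∀ v : P d → F, M *ᵥ (M *ᵥ v) = -v := by
    intro v
    rw [Matrix.mulVec_mulVec, hx2, Matrix.neg_mulVec, Matrix.one_mulVec]
  have hiso : ∀ v : P d → F,
      Cfsg.quadFormPlus d F (M *ᵥ v) = Cfsg.quadFormPlus d F v := by
    intro v
    exact hx v v
  have hStab : ∀ w ∈ W, M *ᵥ w ∈ W := by
    intro w hw
    have := hSt (Submodule.mem_map_of_mem hw)
    rwa [Matrix.toLin'_apply] at this
  have hts1 : ∀ v ∈ W ⊓ eig M ι, Cfsg.quadFormPlus d F v = 0 :=
    fun v hv => eig_ts h2 M hiso ι hιι v hv.2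
  have hts2 : ∀ v ∈ W ⊓ eig M (-ι), Cfsg.quadFormPlus d F v = 0 :=
    fun v hv => eig_ts h2 M hiso (-ι) (by rw [neg_mul_neg, hιι]) v hv.2
  have hsup : (W ⊓ eig M ι) ⊔ (W ⊓ eig M (-ι)) = W := by
    apply le_antisymm (sup_le inf_le_left inf_le_left)
    intro v hvW
    have hMv := hStab v hvW
    have ha : (2 : F)⁻¹ • (v - ι • (M *ᵥ v)) ∈ eig M ι := by
      apply Submodule.smul_mem
      rw [mem_eig, Matrix.mulVec_sub, Matrix.mulVec_smul, hMMv, smul_sub, smul_smul, hιι]
      simp only [smul_neg, neg_smul, one_smul, sub_neg_eq_add]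
      rw [add_comm]
    have hb : (2 : F)⁻¹ • (v + ι • (M *ᵥ v)) ∈ eig M (-ι) := by
      apply Submodule.smul_mem
      rw [mem_eig, Matrix.mulVec_add, Matrix.mulVec_smul, hMMv, smul_add, smul_smul,
        neg_mul, hιι]
      simp only [smul_neg, neg_smul, one_smul, neg_neg]
      rw [add_comm]
    have haW : (2 : F)⁻¹ • (v - ι • (M *ᵥ v)) ∈ W :=
      W.smul_mem _ (W.sub_mem hvW (W.smul_mem _ hMv))
    have hbW : (2 : F)⁻¹ • (v + ι • (M *ᵥ v)) ∈ W :=
      W.smul_mem _ (W.add_mem hvW (W.smul_mem _ hMv))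
    have hv : v = (2 : F)⁻¹ • (v - ι • (M *ᵥ v)) + (2 : F)⁻¹ • (v + ι • (M *ᵥ v)) := by
      rw [← smul_add]
      have : v - ι • (M *ᵥ v) + (v + ι • (M *ᵥ v)) = (2 : F) • v := by
        rw [two_smul]; abel
      rw [this, smul_smul, inv_mul_cancel₀ h2, one_smul]
    rw [hv]
    exact Submodule.add_mem _ (Submodule.mem_sup_left ⟨haW, ha⟩) (Submodule.mem_sup_right ⟨hbW, hb⟩)
  have hf1 : 2 * Module.finrank F ↥(W ⊓ eig M ι) ≤ Module.finrank F ↥W :=
    hHalf F d W (W ⊓ eig M ι) hW inf_le_left hts1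
  have hf2 : 2 * Module.finrank F ↥(W ⊓ eig M (-ι)) ≤ Module.finrank F ↥W :=
    hHalf F d W (W ⊓ eig M (-ι)) hW inf_le_left hts2
  have hle : Module.finrank F ↥W ≤
      Module.finrank F ↥(W ⊓ eig M ι) + Module.finrank F ↥(W ⊓ eig M (-ι)) := by
    have h := Submodule.finrank_add_le_finrank_add_finrank (W ⊓ eig M ι) (W ⊓ eig M (-ι))
    rw [hsup] at h
    exact h
  have hgoal : 2 * Module.finrank F ↥(W ⊓ eig M ι) = Module.finrank F ↥W := by omega
  exact ⟨W ⊓ eig M ι, inf_le_left, hts1, hgoal⟩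

end Cfsg.Agent.Lib.Helper20.EPNEGSQFIXA
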