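import Mathlib

set_option autoImplicit false

namespace Cfsg.Agent.Lib.Helper20.Gl5

theorem exists_larger_of_not_surj {G : Type*} [Group G] [Finite G] (A : Subgroup G)
    (hAab : ∀ x ∈ A, ∀ y ∈ A, x * y = y * x) (x : G)
    (hM : ∀ g ∈ A, ∀ h ∈ A, (x⁻¹ * g⁻¹ * x * g) * (x⁻¹ * h⁻¹ * x * h)
      = (x⁻¹ * h⁻¹ * x * h) * (x⁻¹ * g⁻¹ * x * g))
    (m : G) (hm : m ∈ Subgroup.closure {y | ∃ g ∈ A, y = x⁻¹ * g⁻¹ * x * g})
    (hns : ∀ g ∈ A, ∀ z ∈ Subgroup.closure {y | ∃ g ∈ A, y = x⁻¹ * g⁻¹ * x * g},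
      (∀ h ∈ A, h * z = z * h) → m ≠ (x⁻¹ * g⁻¹ * x * g) * z) :
    ∃ T : Subgroup G, (∀ s ∈ T, ∀ t ∈ T, s * t = t * s) ∧
      T ≤ A ⊔ Subgroup.closure {y | ∃ g ∈ A, y = x⁻¹ * g⁻¹ * x * g} ∧
      Nat.card A < Nat.card T := by
  classical
  have hφmul : ∀ g h : G, x⁻¹ * (g * h)⁻¹ * x * (g * h)
      = (x⁻¹ * h⁻¹ * x * h) * (h⁻¹ * (x⁻¹ * g⁻¹ * x * g) * h) := by
    intro g h; group
  obtain ⟨M, hMdef⟩ : ∃ M : Subgroup G,
      M = Subgroup.closure {y | ∃ g ∈ A, y = x⁻¹ * g⁻¹ * x * g} := ⟨_, rfl⟩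
  rw [← hMdef] at hm hns ⊢
  have hφM : ∀ g ∈ A, x⁻¹ * g⁻¹ * x * g ∈ M := by
    intro g hg; rw [hMdef]; exact Subgroup.subset_closure ⟨g, hg, rfl⟩
  -- M is abelian
  have hMab : ∀ s ∈ M, ∀ t ∈ M, s * t = t * s := by
    have h1 : M ≤ Subgroup.centralizer {y | ∃ g ∈ A, y = x⁻¹ * g⁻¹ * x * g} := by
      rw [hMdef]
      apply (Subgroup.closure_le _).mpr
      rintro s ⟨g, hg, rfl⟩
      rw [SetLike.mem_coe, Subgroup.mem_centralizer_iff]
      rintro t ⟨h, hh, rfl⟩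
      exact hM h hh g hg
    have h2 : ∀ s ∈ M, s ∈ Subgroup.centralizer (M : Set G) := by
      intro s hs
      rw [hMdef] at hs
      induction hs using Subgroup.closure_induction with
      | mem z hz =>
        rw [Subgroup.mem_centralizer_iff]
        intro t ht
        exact (Subgroup.mem_centralizer_iff.mp (h1 ht) z hz).symm
      | one => exact Subgroup.one_mem _
      | mul z w _ _ ihz ihw => exact Subgroup.mul_mem _ ihz ihw
      | inv z _ ihz => exact Subgroup.inv_mem _ ihz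
    intro s hs t ht
    exact (Subgroup.mem_centralizer_iff.mp (h2 s hs) t ht).symm
  -- the elements of A centralizing M
  obtain ⟨C, hCdef⟩ : ∃ C : Subgroup G, C = A ⊓ Subgroup.centralizer (M : Set G) := ⟨_, rfl⟩
  have hCA : C ≤ A := by rw [hCdef]; exact inf_le_left
  have hCM : ∀ c ∈ C, ∀ s ∈ M, c * s = s * c := by
    intro c hc s hs
    rw [hCdef] at hc
    exact (Subgroup.mem_centralizer_iff.mp (Subgroup.mem_inf.mp hc).2 s hs).symm
  -- (a): if A centralizes φ w then w ∈ C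
  have ha : ∀ w ∈ A, (∀ g ∈ A, g * (x⁻¹ * w⁻¹ * x * w) = (x⁻¹ * w⁻¹ * x * w) * g) → w ∈ C := by
    intro w hw hcen
    have hle : ∀ s ∈ M, s ∈ Subgroup.centralizer {w} := by
      intro s hs
      rw [hMdef] at hs
      induction hs using Subgroup.closure_induction with
      | mem s hz =>
        obtain ⟨g, hg, rfl⟩ := hz
        rw [Subgroup.mem_centralizer_iff]
        intro z hz
        rw [Set.mem_singleton_iff] at hz; subst hz
        have e1 := hφmul g z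
        have e2 := hφmul z g
        have e3 : g * z = z * g := hAab g hg z hw
        have e4 : g⁻¹ * (x⁻¹ * z⁻¹ * x * z) * g = x⁻¹ * z⁻¹ * x * z := by
          calc g⁻¹ * (x⁻¹ * z⁻¹ * x * z) * g = g⁻¹ * ((x⁻¹ * z⁻¹ * x * z) * g) := by group
            _ = g⁻¹ * (g * (x⁻¹ * z⁻¹ * x * z)) := by rw [hcen g hg]
            _ = x⁻¹ * z⁻¹ * x * z := by group
        have e5 := hM g hg z hw
        rw [e3, e2, e4, e5] at e1
        have e6 := mul_left_cancel e1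
        calc z * (x⁻¹ * g⁻¹ * x * g) = z * (z⁻¹ * (x⁻¹ * g⁻¹ * x * g) * z) := by rw [← e6]
          _ = (x⁻¹ * g⁻¹ * x * g) * z := by group
      | one => exact Subgroup.one_mem _
      | mul z w _ _ ihz ihw => exact Subgroup.mul_mem _ ihz ihw
      | inv z _ ihz => exact Subgroup.inv_mem _ ihz
    rw [hCdef]
    refine Subgroup.mem_inf.mpr ⟨hw, ?_⟩
    rw [Subgroup.mem_centralizer_iff]
    intro s hs
    exact (Subgroup.mem_centralizer_iff.mp (hle s hs) w (Set.mem_singleton w)).symm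
  -- (b)
  have hb : ∀ g ∈ A, ∀ g' ∈ A,
      (∀ h ∈ A, h * ((x⁻¹ * g⁻¹ * x * g)⁻¹ * (x⁻¹ * g'⁻¹ * x * g'))
        = ((x⁻¹ * g⁻¹ * x * g)⁻¹ * (x⁻¹ * g'⁻¹ * x * g')) * h) → g⁻¹ * g' ∈ C := by
    intro g hg g' hg' hcen
    have hw : g⁻¹ * g' ∈ A := A.mul_mem (A.inv_mem hg) hg'
    apply ha _ hw
    have e1 : g' = (g⁻¹ * g') * g := by
      have := hAab (g⁻¹ * g') hw g hg
      rw [this]; group
    have e2' : x⁻¹ * g'⁻¹ * x * g' = (x⁻¹ * g⁻¹ * x * g)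
        * (g⁻¹ * (x⁻¹ * (g⁻¹ * g')⁻¹ * x * (g⁻¹ * g')) * g) := by
      calc x⁻¹ * g'⁻¹ * x * g' = x⁻¹ * ((g⁻¹ * g') * g)⁻¹ * x * ((g⁻¹ * g') * g) := by
            rw [← e1]
        _ = _ := hφmul (g⁻¹ * g') g
    have e2 : (x⁻¹ * g⁻¹ * x * g)⁻¹ * (x⁻¹ * g'⁻¹ * x * g')
        = g⁻¹ * (x⁻¹ * (g⁻¹ * g')⁻¹ * x * (g⁻¹ * g')) * g := by
      rw [e2']; group
    have h1 := hcen g hg
    have e3 : x⁻¹ * (g⁻¹ * g')⁻¹ * x * (g⁻¹ * g')
        = (x⁻¹ * g⁻¹ * x * g)⁻¹ * (x⁻¹ * g'⁻¹ * x * g') := by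
      calc x⁻¹ * (g⁻¹ * g')⁻¹ * x * (g⁻¹ * g')
          = g * (g⁻¹ * (x⁻¹ * (g⁻¹ * g')⁻¹ * x * (g⁻¹ * g')) * g) * g⁻¹ := by group
        _ = g * ((x⁻¹ * g⁻¹ * x * g)⁻¹ * (x⁻¹ * g'⁻¹ * x * g')) * g⁻¹ := by rw [← e2]
        _ = ((x⁻¹ * g⁻¹ * x * g)⁻¹ * (x⁻¹ * g'⁻¹ * x * g')) * g * g⁻¹ := by rw [h1]
        _ = (x⁻¹ * g⁻¹ * x * g)⁻¹ * (x⁻¹ * g'⁻¹ * x * g') := by group
    intro h hh
    rw [e3]
    exact hcen h hh
  -- T
  have hT1 : C ⊔ M ≤ Subgroup.centralizer (C : Set G) := by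
    apply sup_le
    · intro c hc
      rw [Subgroup.mem_centralizer_iff]
      intro d hd
      exact hAab d (hCA hd) c (hCA hc)
    · intro s hs
      rw [Subgroup.mem_centralizer_iff]
      intro d hd
      exact hCM d hd s hs
  have hT2 : C ⊔ M ≤ Subgroup.centralizer (M : Set G) := by
    apply sup_le
    · intro c hc
      rw [Subgroup.mem_centralizer_iff]
      intro s hs
      exact (hCM c hc s hs).symm
    · intro s hs
      rw [Subgroup.mem_centralizer_iff]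
      intro t ht
      exact hMab t ht s hs
  have hTab : ∀ s ∈ C ⊔ M, ∀ t ∈ C ⊔ M, s * t = t * s := by
    have h3 : C ⊔ M ≤ Subgroup.centralizer ((C ⊔ M : Subgroup G) : Set G) := by
      apply sup_le
      · intro c hc
        rw [Subgroup.mem_centralizer_iff]
        intro t ht
        exact (Subgroup.mem_centralizer_iff.mp (hT1 ht) c hc).symm
      · intro s hs
        rw [Subgroup.mem_centralizer_iff]
        intro t ht
        exact (Subgroup.mem_centralizer_iff.mp (hT2 ht) s hs).symm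
    intro s hs t ht
    exact (Subgroup.mem_centralizer_iff.mp (h3 hs) t ht).symm
  have hTle : C ⊔ M ≤ A ⊔ M := sup_le_sup_right hCA M
  refine ⟨C ⊔ M, hTab, hTle, ?_⟩
  -- representatives of the cosets of C in A
  let S : G → Set G := fun g => {a | a ∈ A ∧ g⁻¹ * a ∈ C}
  let rep : Set G → G := fun s => if h : s.Nonempty then h.some else 1
  have hrep : ∀ s : Set G, s.Nonempty → rep s ∈ s := by
    intro s hs
    simp only [rep, dif_pos hs]
    exact hs.some_mem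
  have hSne : ∀ g ∈ A, (S g).Nonempty := by
    intro g hg
    refine ⟨g, hg, ?_⟩
    rw [inv_mul_cancel]; exact C.one_mem
  have hSeq : ∀ g g' : G, g⁻¹ * g' ∈ C → S g = S g' := by
    intro g g' h
    ext a
    constructor
    · rintro ⟨haA, haC⟩
      refine ⟨haA, ?_⟩
      have e : g'⁻¹ * a = (g⁻¹ * g')⁻¹ * (g⁻¹ * a) := by group
      rw [e]; exact C.mul_mem (C.inv_mem h) haC
    · rintro ⟨haA, haC⟩
      refine ⟨haA, ?_⟩
      have e : g⁻¹ * a = (g⁻¹ * g') * (g'⁻¹ * a) := by group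
      rw [e]; exact C.mul_mem h haC
  have hrA : ∀ a ∈ A, rep (S a) ∈ A := fun a ha => (hrep _ (hSne a ha)).1
  have hrC : ∀ a ∈ A, (rep (S a))⁻¹ * a ∈ C := by
    intro a ha
    have h := (hrep _ (hSne a ha)).2
    have e : (rep (S a))⁻¹ * a = (a⁻¹ * rep (S a))⁻¹ := by group
    rw [e]; exact C.inv_mem h
  have hΨmem : ∀ a : A, (x⁻¹ * (rep (S a))⁻¹ * x * rep (S a)) * ((rep (S a))⁻¹ * a) ∈ C ⊔ M := by
    intro a
    exact Subgroup.mul_mem _ (Subgroup.mem_sup_right (hφM _ (hrA a a.2)))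
      (Subgroup.mem_sup_left (hrC a a.2))
  let Ψ : A → (C ⊔ M : Subgroup G) := fun a => ⟨_, hΨmem a⟩
  have hinj : Function.Injective Ψ := by
    intro a a' h
    have hv : (x⁻¹ * (rep (S a))⁻¹ * x * rep (S a)) * ((rep (S a))⁻¹ * a)
        = (x⁻¹ * (rep (S a'))⁻¹ * x * rep (S a')) * ((rep (S a'))⁻¹ * a') :=
      congrArg Subtype.val h
    have hr := hrA a a.2
    have hr' := hrA a' a'.2
    have hc := hrC a a.2
    have hc' := hrC a' a'.2
    generalize hrdef : rep (S (a : G)) = r at hv hr hc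
    generalize hr'def : rep (S (a' : G)) = r' at hv hr' hc'
    -- z := φ(r')⁻¹ φ(r) = c' c⁻¹ ∈ A
    have ez : (x⁻¹ * r'⁻¹ * x * r')⁻¹ * (x⁻¹ * r⁻¹ * x * r) = (r'⁻¹ * a') * (r⁻¹ * a)⁻¹ := by
      calc (x⁻¹ * r'⁻¹ * x * r')⁻¹ * (x⁻¹ * r⁻¹ * x * r)
          = (x⁻¹ * r'⁻¹ * x * r')⁻¹ * ((x⁻¹ * r⁻¹ * x * r) * (r⁻¹ * a)) * (r⁻¹ * a)⁻¹ := by group
        _ = (x⁻¹ * r'⁻¹ * x * r')⁻¹ * ((x⁻¹ * r'⁻¹ * x * r') * (r'⁻¹ * a')) * (r⁻¹ * a)⁻¹ := by
            rw [hv]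
        _ = (r'⁻¹ * a') * (r⁻¹ * a)⁻¹ := by group
    have hzA : (x⁻¹ * r'⁻¹ * x * r')⁻¹ * (x⁻¹ * r⁻¹ * x * r) ∈ A := by
      rw [ez]; exact A.mul_mem (hCA hc') (A.inv_mem (hCA hc))
    have hrr : r'⁻¹ * r ∈ C := hb r' hr' r hr (fun h hh => hAab h hh _ hzA)
    have e : (a : G)⁻¹ * a' = (r⁻¹ * a)⁻¹ * (r'⁻¹ * r)⁻¹ * (r'⁻¹ * a') := by group
    have hS : S (a : G) = S (a' : G) :=
      hSeq a a' (by rw [e]; exact C.mul_mem (C.mul_mem (C.inv_mem hc) (C.inv_mem hrr)) hc')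
    have hreq : r = r' := by rw [← hrdef, ← hr'def, hS]
    subst hreq
    have h1 := mul_left_cancel (mul_left_cancel hv)
    exact Subtype.ext h1
  have hmiss : (⟨m, Subgroup.mem_sup_right hm⟩ : (C ⊔ M : Subgroup G)) ∉ Set.range Ψ := by
    rintro ⟨a, ha⟩
    have hv : (x⁻¹ * (rep (S a))⁻¹ * x * rep (S a)) * ((rep (S a))⁻¹ * a) = m :=
      congrArg Subtype.val ha
    have hr := hrA a a.2
    have hc := hrC a a.2
    generalize rep (S (a : G)) = r at hv hr hc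
    have hcM : r⁻¹ * (a : G) ∈ M := by
      have e : r⁻¹ * (a : G) = (x⁻¹ * r⁻¹ * x * r)⁻¹ * m := by rw [← hv]; group
      rw [e]; exact M.mul_mem (M.inv_mem (hφM r hr)) hm
    exact hns r hr (r⁻¹ * a) hcM (fun h hh => hAab h hh _ (hCA hc)) hv.symm
  haveI := Fintype.ofFinite A
  haveI := Fintype.ofFinite (C ⊔ M : Subgroup G)
  rw [Nat.card_eq_fintype_card, Nat.card_eq_fintype_card]
  exact Fintype.card_lt_of_injective_of_notMem Ψ hinj hmiss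

end Cfsg.Agent.Lib.Helper20.Gl5
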