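import Mathlib
import Cfsg.Agent.Lib.Helper89.NCStmt
import Cfsg.Agent.S2475

set_option autoImplicit false

namespace Cfsg.Agent.Lib.Helper20.NCQVAL

universe u

theorem main : Cfsg.Agent.Lib.Helper89.NCStmt.QVal.{u} := by
  intro G _ _ hCIT K _ _ hchar ⟨e⟩
  classical
  obtain ⟨p, hp⟩ := CharP.exists K
  haveI := hp
  haveI hpp : Fact p.Prime := ⟨CharP.char_is_prime K p⟩
  have hp2 : p ≠ 2 := by
    intro h
    apply hchar
    rw [← h]
    exact ringChar.eq K p
  obtain ⟨n, hn⟩ := FiniteField.card K p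
  have hqodd : Odd (Fintype.card K) := by
    rw [hn.2]; exact (hpp.out.odd_of_ne_two hp2).pow
  have hq1 : 1 < Fintype.card K := Fintype.one_lt_card
  by_cases hq3 : Fintype.card K = 3
  · exact ⟨1, Or.inl (by rw [hq3]; norm_num)⟩
  have hq5 : 5 ≤ Fintype.card K := by
    obtain ⟨c, hc⟩ := hqodd; omega
  have hgcd : Nat.gcd 2 (Fintype.card K - 1) = 2 :=
    Nat.gcd_eq_left (by obtain ⟨c, hc⟩ := hqodd; omega)
  have hset := Cfsg.Agent.S2475.result (F := K) p (by omega)
  rw [hgcd] at hset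
  have key : ∀ m : ℕ, Even m → 2 ≤ m →
      (∃ g : Matrix.ProjectiveSpecialLinearGroup (Fin 2) K, orderOf g = m) → ∃ j, m = 2 ^ j := by
    intro m hme hm2 ⟨g, hg⟩
    obtain ⟨c, hc⟩ := hme
    obtain ⟨t, ht⟩ : ∃ t, t = g ^ c := ⟨_, rfl⟩
    have ht2 : orderOf t = 2 := by
      rw [ht]
      apply orderOf_eq_prime
      · rw [← pow_mul, mul_two, ← hc, ← hg]
        exact pow_orderOf_eq_one g
      · intro h1
        have := orderOf_dvd_of_pow_eq_one h1
        rw [hg] at this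
        have := Nat.le_of_dvd (by omega) this
        omega
    have ht2' : orderOf (e.symm t) = 2 := by rw [MulEquiv.orderOf_eq]; exact ht2
    have hP := hCIT (e.symm t) ht2'
    have hmem : e.symm g ∈ Subgroup.centralizer ({e.symm t} : Set G) := by
      rw [Subgroup.mem_centralizer_iff]
      intro h hh
      rw [Set.mem_singleton_iff] at hh
      subst hh
      rw [← map_mul, ← map_mul, ht, ← pow_succ, ← pow_succ']
    obtain ⟨k, hk⟩ := hP ⟨e.symm g, hmem⟩
    have hk' : (e.symm g) ^ (2 ^ k) = 1 := by simpa using congrArg Subtype.val hk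
    have hd : orderOf (e.symm g) ∣ 2 ^ k := orderOf_dvd_of_pow_eq_one hk'
    rw [MulEquiv.orderOf_eq, hg] at hd
    obtain ⟨j, -, hj⟩ := (Nat.dvd_prime_pow Nat.prime_two).mp hd
    exact ⟨j, hj⟩
  have h1 : (Fintype.card K - 1) / 2 ∈
      Set.range (orderOf : Matrix.ProjectiveSpecialLinearGroup (Fin 2) K → ℕ) := by
    rw [hset]; exact Or.inr (Or.inl dvd_rfl)
  have h2 : (Fintype.card K + 1) / 2 ∈
      Set.range (orderOf : Matrix.ProjectiveSpecialLinearGroup (Fin 2) K → ℕ) := by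
    rw [hset]; exact Or.inr (Or.inr dvd_rfl)
  obtain ⟨c, hc⟩ := hqodd
  have e1 : (Fintype.card K - 1) / 2 = c := by omega
  have e2 : (Fintype.card K + 1) / 2 = c + 1 := by omega
  rw [e1] at h1
  rw [e2] at h2
  rcases Nat.even_or_odd c with hce | hco
  · obtain ⟨j, hj⟩ := key c hce (by omega) h1
    exact ⟨j + 1, Or.inl (by rw [hc, hj, pow_succ]; ring)⟩
  · obtain ⟨j, hj⟩ := key (c + 1) hco.add_one (by omega) h2
    refine ⟨j + 1, Or.inr ?_⟩
    rw [pow_succ, ← hj]
    omega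

end Cfsg.Agent.Lib.Helper20.NCQVAL
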