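import Mathlib
import Cfsg.Agent.Lib.Helper42.PglStmt
import Cfsg.Agent.Lib.Helper34.PglSD

/-!
# S3452 piece Q9: a group with a non-trivial solvable normal subgroup and the spectrum
`{1, 2, 3, 4, 5, 8, 10}` of `PGL₂(9)`

The Frobenius group `3⁴ : C`, `C = ⟨A, B⟩` of order `40` acting on `V = (ZMod 3)⁴ = F₈₁`
(`A` = multiplication by a primitive 5th root of unity, `B` = a non-square times Frobenius).
-/

set_option autoImplicit false

namespace Cfsg.Agent.Lib.Helper20.PglQ9

open Cfsg.Agent.Lib.Helper42.PglStmt Cfsg.Agent.Lib.Helper34.PglSD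

/-- the module `(ZMod 3)⁴` -/
abbrev V : Type := ZMod 3 × ZMod 3 × ZMod 3 × ZMod 3

/-- multiplication by `t` on `F₃[t]/(t⁴+t³+t²+t+1)` -/
def Afun (v : V) : V := (-v.2.2.2, v.1 - v.2.2.2, v.2.1 - v.2.2.2, v.2.2.1 - v.2.2.2)

/-- `x ↦ b x³` for the non-square `b = t² + 2t³` -/
def Bfun (v : V) : V :=
  (v.2.1 + v.2.2.1, -v.2.1 + v.2.2.1 + v.2.2.2, v.1 + v.2.2.1 - v.2.2.2, -v.1 - v.2.2.1)

/-- the map `A^i B^j` -/
def w (i j : ℕ) (v : V) : V := Afun^[i] (Bfun^[j] v)

/-- a non-zero vector -/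
def v0 : V := (1, 0, 0, 0)

set_option maxRecDepth 100000 in
theorem dA5 : ∀ v : V, Afun^[5] v = v := by decide +kernel

set_option maxRecDepth 100000 in
theorem dB8 : ∀ v : V, Bfun^[8] v = v := by decide +kernel

set_option maxRecDepth 100000 in
theorem dBA : ∀ v : V, Bfun (Afun v) = Afun^[3] (Bfun v) := by decide +kernel

set_option maxRecDepth 100000 in
theorem d3 : ∀ i : Fin 5, ∀ j : Fin 8, (i, j) ≠ (0, 0) → ∀ v : V, w i j v = v → v = 0 := by
  decide +kernel

set_option maxRecDepth 100000 in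
theorem d4 : ∀ i : Fin 5, ∀ j : Fin 8, (w i j)^[8] v0 = v0 ∨ (w i j)^[10] v0 = v0 := by
  decide +kernel

theorem d5 : Bfun^[4] v0 ≠ v0 := by decide +kernel

theorem d6 : (w 1 4)^[10] v0 = v0 ∧ (w 1 4)^[5] v0 ≠ v0 ∧ (w 1 4)^[2] v0 ≠ v0 := by
  decide +kernel

theorem d7 : ∀ v : V, v + v + v = 0 := by decide +kernel

theorem v0_ne : v0 ≠ 0 := by decide +kernel

theorem Afun_add (v w : V) : Afun (v + w) = Afun v + Afun w := by
  obtain ⟨a, b, c, d⟩ := v
  obtain ⟨a', b', c', d'⟩ := w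
  simp only [Afun, Prod.mk_add_mk, Prod.mk.injEq]
  refine ⟨?_, ?_, ?_, ?_⟩ <;> ring

theorem Bfun_add (v w : V) : Bfun (v + w) = Bfun v + Bfun w := by
  obtain ⟨a, b, c, d⟩ := v
  obtain ⟨a', b', c', d'⟩ := w
  simp only [Bfun, Prod.mk_add_mk, Prod.mk.injEq]
  refine ⟨?_, ?_, ?_, ?_⟩ <;> ring

theorem iter_add (f : V → V) (hf : ∀ v w : V, f (v + w) = f v + f w) (n : ℕ) (v w : V) :
    f^[n] (v + w) = f^[n] v + f^[n] w := by
  induction n with
  | zero => rfl
  | succ n ih => rw [Function.iterate_succ_apply', Function.iterate_succ_apply',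
      Function.iterate_succ_apply', ih, hf]

theorem w_add (i j : ℕ) (v v' : V) : w i j (v + v') = w i j v + w i j v' := by
  unfold w
  rw [iter_add Bfun Bfun_add, iter_add Afun Afun_add]

/-- `A` as a permutation -/
def Aaut : Equiv.Perm V where
  toFun := Afun
  invFun := Afun^[4]
  left_inv := fun v => dA5 v
  right_inv := fun v => by
    rw [← Function.iterate_succ_apply' Afun 4 v]
    exact dA5 v

/-- `B` as a permutation -/
def Baut : Equiv.Perm V where
  toFun := Bfun
  invFun := Bfun^[7]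
  left_inv := fun v => dB8 v
  right_inv := fun v => by
    rw [← Function.iterate_succ_apply' Bfun 7 v]
    exact dB8 v

theorem Aaut_apply (v : V) : Aaut v = Afun v := rfl

theorem Baut_apply (v : V) : Baut v = Bfun v := rfl

theorem aut_pow_apply (x : Equiv.Perm V) (n : ℕ) (v : V) : (x ^ n) v = (⇑x)^[n] v := by
  induction n generalizing v with
  | zero => rfl
  | succ n ih => rw [pow_succ, Equiv.Perm.mul_apply, ih, Function.iterate_succ_apply]

/-- `A^i B^j` in `Equiv.Perm V` -/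
def W (i j : ℕ) : Equiv.Perm V := Aaut ^ i * Baut ^ j

theorem W_apply (i j : ℕ) (v : V) : W i j v = w i j v := by
  unfold W w
  rw [Equiv.Perm.mul_apply, aut_pow_apply, aut_pow_apply]
  rfl

theorem W_coe (i j : ℕ) : (⇑(W i j) : V → V) = w i j := funext (W_apply i j)

theorem hA5 : Aaut ^ 5 = 1 := by
  apply Equiv.ext
  intro v
  rw [aut_pow_apply]
  exact dA5 v

theorem hB8 : Baut ^ 8 = 1 := by
  apply Equiv.ext
  intro v
  rw [aut_pow_apply]
  exact dB8 v

theorem hBA : Baut * Aaut = Aaut ^ 3 * Baut := by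
  apply Equiv.ext
  intro v
  rw [Equiv.Perm.mul_apply, Equiv.Perm.mul_apply, aut_pow_apply]
  exact dBA v

theorem hBAi (i : ℕ) : Baut * Aaut ^ i = Aaut ^ (3 * i) * Baut := by
  induction i with
  | zero => simp
  | succ i ih =>
    calc Baut * Aaut ^ (i + 1) = (Baut * Aaut ^ i) * Aaut := by rw [pow_succ, mul_assoc]
      _ = Aaut ^ (3 * i) * (Baut * Aaut) := by rw [ih, mul_assoc]
      _ = Aaut ^ (3 * i) * (Aaut ^ 3 * Baut) := by rw [hBA]
      _ = Aaut ^ (3 * (i + 1)) * Baut := by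
        rw [← mul_assoc, ← pow_add, show 3 * (i + 1) = 3 * i + 3 by ring]

theorem hBkAi (k i : ℕ) : Baut ^ k * Aaut ^ i = Aaut ^ (3 ^ k * i) * Baut ^ k := by
  induction k generalizing i with
  | zero => simp
  | succ k ih =>
    calc Baut ^ (k + 1) * Aaut ^ i = Baut ^ k * (Baut * Aaut ^ i) := by rw [pow_succ, mul_assoc]
      _ = Baut ^ k * (Aaut ^ (3 * i) * Baut) := by rw [hBAi]
      _ = (Baut ^ k * Aaut ^ (3 * i)) * Baut := by rw [mul_assoc]
      _ = (Aaut ^ (3 ^ k * (3 * i)) * Baut ^ k) * Baut := by rw [ih]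
      _ = Aaut ^ (3 ^ (k + 1) * i) * Baut ^ (k + 1) := by
        rw [mul_assoc, ← pow_succ, show 3 ^ (k + 1) * i = 3 ^ k * (3 * i) by ring]

/-- the group `C = {A^i B^j}` -/
def Qg : Subgroup (Equiv.Perm V) where
  carrier := {x | ∃ i j : ℕ, x = W i j}
  mul_mem' := by
    rintro _ _ ⟨i, j, rfl⟩ ⟨k, l, rfl⟩
    refine ⟨i + 3 ^ j * k, j + l, ?_⟩
    unfold W
    calc Aaut ^ i * Baut ^ j * (Aaut ^ k * Baut ^ l)
        = Aaut ^ i * (Baut ^ j * Aaut ^ k) * Baut ^ l := by simp only [mul_assoc]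
      _ = Aaut ^ i * (Aaut ^ (3 ^ j * k) * Baut ^ j) * Baut ^ l := by rw [hBkAi]
      _ = Aaut ^ (i + 3 ^ j * k) * Baut ^ (j + l) := by
        rw [pow_add, pow_add]
        simp only [mul_assoc]
  one_mem' := ⟨0, 0, by simp [W]⟩
  inv_mem' := by
    rintro _ ⟨i, j, rfl⟩
    refine ⟨3 ^ (7 * j) * (4 * i), 7 * j, ?_⟩
    unfold W
    have hAinv : (Aaut ^ i)⁻¹ = Aaut ^ (4 * i) := by
      apply inv_eq_of_mul_eq_one_right
      rw [← pow_add, show i + 4 * i = 5 * i by ring, pow_mul, hA5, one_pow]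
    have hBinv : (Baut ^ j)⁻¹ = Baut ^ (7 * j) := by
      apply inv_eq_of_mul_eq_one_right
      rw [← pow_add, show j + 7 * j = 8 * j by ring, pow_mul, hB8, one_pow]
    rw [mul_inv_rev, hAinv, hBinv, hBkAi]

theorem W_mem (i j : ℕ) : W i j ∈ Qg := ⟨i, j, rfl⟩

theorem mem_Qg (x : Equiv.Perm V) (hx : x ∈ Qg) : ∃ i : Fin 5, ∃ j : Fin 8, x = W i j := by
  obtain ⟨i, j, rfl⟩ := hx
  refine ⟨⟨i % 5, Nat.mod_lt _ (by norm_num)⟩, ⟨j % 8, Nat.mod_lt _ (by norm_num)⟩, ?_⟩
  unfold W
  rw [pow_eq_pow_mod i hA5, pow_eq_pow_mod j hB8]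

theorem fpf (x : Equiv.Perm V) (hx : x ∈ Qg) (hx1 : x ≠ 1) (v : V) (hv : x v = v) : v = 0 := by
  obtain ⟨i, j, rfl⟩ := mem_Qg x hx
  have hij : (i, j) ≠ (0, 0) := by
    intro h
    apply hx1
    have hi : i = 0 := (Prod.mk.inj h).1
    have hj : j = 0 := (Prod.mk.inj h).2
    rw [hi, hj]
    simp [W]
  rw [W_apply] at hv
  exact d3 i j hij v hv

theorem pow_eq_one_of_iter (i j n : ℕ) (h : (w i j)^[n] v0 = v0) : W i j ^ n = 1 := by
  by_contra hne
  have h1 : (W i j ^ n) v0 = v0 := by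
    rw [aut_pow_apply, W_coe]
    exact h
  exact v0_ne (fpf _ (Qg.pow_mem (W_mem i j) n) hne v0 h1)

theorem pow_ne_one_of_iter (i j n : ℕ) (h : (w i j)^[n] v0 ≠ v0) : W i j ^ n ≠ 1 := by
  intro h1
  apply h
  have h2 : (W i j ^ n) v0 = v0 := by rw [h1]; rfl
  rw [aut_pow_apply, W_coe] at h2
  exact h2

theorem ord (x : Equiv.Perm V) (hx : x ∈ Qg) : x ^ 8 = 1 ∨ x ^ 10 = 1 := by
  obtain ⟨i, j, rfl⟩ := mem_Qg x hx
  rcases d4 i j with h | h
  · exact Or.inl (pow_eq_one_of_iter i j 8 h)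
  · exact Or.inr (pow_eq_one_of_iter i j 10 h)

theorem orderOf_B : orderOf (W 0 1) = 8 := by
  haveI : Fact (Nat.Prime 2) := ⟨Nat.prime_two⟩
  have h1 : ¬ W 0 1 ^ 2 ^ 2 = 1 := by
    apply pow_ne_one_of_iter
    show (w 0 1)^[4] v0 ≠ v0
    exact d5
  have h2 : W 0 1 ^ 2 ^ (2 + 1) = 1 := by
    have h3 : W 0 1 = Baut := by simp [W]
    rw [h3]
    exact hB8
  exact orderOf_eq_prime_pow h1 h2

theorem orderOf_C : orderOf (W 1 4) = 10 := by
  apply orderOf_eq_of_pow_and_pow_div_prime (by norm_num) (pow_eq_one_of_iter 1 4 10 d6.1)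
  intro p hp hpd
  have hp' : p = 2 ∨ p = 5 := by
    have h10 : (10 : ℕ) = 2 * 5 := by norm_num
    rw [h10] at hpd
    rcases (Nat.Prime.dvd_mul hp).mp hpd with h | h
    · exact Or.inl ((Nat.prime_dvd_prime_iff_eq hp Nat.prime_two).mp h)
    · exact Or.inr ((Nat.prime_dvd_prime_iff_eq hp Nat.prime_five).mp h)
  rcases hp' with rfl | rfl
  · exact pow_ne_one_of_iter 1 4 5 d6.2.1
  · exact pow_ne_one_of_iter 1 4 2 d6.2.2

/-- the action of `C` on `V` -/
def rho : Qg →* AddMonoid.End V where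
  toFun x := AddMonoidHom.mk' (fun v => (x : Equiv.Perm V) v) (by
    intro v v'
    obtain ⟨i, j, h⟩ := x.2
    rw [h, W_apply, W_apply, W_apply]
    exact w_add i j v v')
  map_one' := rfl
  map_mul' _ _ := rfl

theorem rho_apply (x : Qg) (v : V) : rho x v = (x : Equiv.Perm V) v := rfl

theorem main : Q9 := by
  haveI : Finite (GG rho) :=
    Finite.of_equiv _ (SemidirectProduct.equivProd (φ := phi rho)).symm
  have hfpf : ∀ x : Qg, x ≠ 1 → ∀ v : V, rho x v = v → v = 0 := by
    intro x hx v hv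
    refine fpf (x : Equiv.Perm V) x.2 ?_ v hv
    intro h
    exact hx (Subtype.ext h)
  have hord : ∀ x : Qg, x ^ 8 = 1 ∨ x ^ 10 = 1 := by
    intro x
    rcases ord (x : Equiv.Perm V) x.2 with h | h
    · exact Or.inl (Subtype.ext h)
    · exact Or.inr (Subtype.ext h)
  refine ⟨GG rho, inferInstance, inferInstance,
    (SemidirectProduct.inl : Multiplicative V →* GG rho).range, ?_, ?_, ?_, ?_⟩
  · rw [SemidirectProduct.range_inl_eq_ker_rightHom]
    infer_instance
  · intro hbot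
    have h1 : (SemidirectProduct.inl (Multiplicative.ofAdd v0) : GG rho) ∈
        (SemidirectProduct.inl : Multiplicative V →* GG rho).range := ⟨_, rfl⟩
    rw [hbot, Subgroup.mem_bot] at h1
    have h3 : (SemidirectProduct.inl (Multiplicative.ofAdd v0) : GG rho) =
        SemidirectProduct.inl 1 := by rw [h1, map_one]
    have h4 := SemidirectProduct.inl_injective h3
    exact v0_ne (Multiplicative.ofAdd.injective h4)
  · exact Group.isSolvable_of_surjective
      (MonoidHom.rangeRestrict_surjective (SemidirectProduct.inl : Multiplicative V →* GG rho))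
  · ext n
    constructor
    · rintro ⟨g, rfl⟩
      obtain ⟨v, x, rfl⟩ := el_surj rho g
      show orderOf (el rho v x) ∣ 8 ∨ orderOf (el rho v x) ∣ 10 ∨ orderOf (el rho v x) = 3
      by_cases hx : x = 1
      · have h3 : el rho v x ^ 3 = 1 := by
          rw [el_pow, el_one, hx, one_pow]
          have hs : ∑ i ∈ Finset.range 3, rho ((1 : Qg) ^ i) v = v + v + v := by
            rw [Finset.sum_range_succ, Finset.sum_range_succ, Finset.sum_range_one]
            simp only [one_pow, map_one]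
            rfl
          rw [hs, d7]
        have hd : orderOf (el rho v x) ∣ 3 := orderOf_dvd_of_pow_eq_one h3
        rcases (Nat.dvd_prime Nat.prime_three).mp hd with h | h
        · left
          rw [h]
          exact one_dvd _
        · right; right
          exact h
      · have hdvd : orderOf (el rho v x) ∣ orderOf x := by
          apply orderOf_dvd_of_pow_eq_one
          rw [el_pow, el_one, pow_orderOf_eq_one,
            hfpf x hx _ (rho_norm rho x v _ (pow_orderOf_eq_one x))]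
        rcases hord x with h8 | h10
        · left
          exact hdvd.trans (orderOf_dvd_of_pow_eq_one h8)
        · right; left
          exact hdvd.trans (orderOf_dvd_of_pow_eq_one h10)
    · intro hn
      have hn' : n ∣ 8 ∨ n ∣ 10 ∨ n = 3 := hn
      have key : ∀ (y : Qg) (m : ℕ), 0 < m → orderOf y = m → n ∣ m →
          n ∈ Set.range (orderOf : GG rho → ℕ) := by
        intro y m hm hy hnm
        refine ⟨(SemidirectProduct.inr (y ^ (m / n)) : GG rho), ?_⟩
        have hnpos : 0 < n := Nat.pos_of_dvd_of_pos hnm hm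
        have hn0 : m / n ≠ 0 := by
          have := Nat.div_pos (Nat.le_of_dvd hm hnm) hnpos
          omega
        have hdv : m / n ∣ orderOf y := by
          rw [hy]
          exact Nat.div_dvd_of_dvd hnm
        rw [orderOf_injective (SemidirectProduct.inr : Qg →* GG rho)
          SemidirectProduct.inr_injective, orderOf_pow_of_dvd hn0 hdv, hy]
        exact Nat.div_div_self hnm (by omega)
      rcases hn' with h | h | h
      · refine key ⟨W 0 1, W_mem 0 1⟩ 8 (by norm_num) ?_ h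
        rw [Subgroup.orderOf_mk]
        exact orderOf_B
      · refine key ⟨W 1 4, W_mem 1 4⟩ 10 (by norm_num) ?_ h
        rw [Subgroup.orderOf_mk]
        exact orderOf_C
      · haveI : Fact (Nat.Prime 3) := ⟨Nat.prime_three⟩
        refine ⟨el rho v0 1, ?_⟩
        rw [h]
        apply orderOf_eq_prime
        · rw [el_pow, el_one, one_pow]
          have hs : ∑ i ∈ Finset.range 3, rho ((1 : Qg) ^ i) v0 = v0 + v0 + v0 := by
            rw [Finset.sum_range_succ, Finset.sum_range_succ, Finset.sum_range_one]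
            simp only [one_pow, map_one]
            rfl
          rw [hs, d7]
        · intro h1
          rw [el_one] at h1
          exact v0_ne (el_inj rho h1).1

end Cfsg.Agent.Lib.Helper20.PglQ9
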