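import Mathlib
import Cfsg.Agent.Lib.Helper18.ReeMultStmt

/-!
# S2113, piece LMUL: the canonical lift `lft s₁` is additive.
-/

set_option autoImplicit false

namespace Cfsg.Agent.Lib.Helper20.ReeMultLMUL

open Cfsg.Agent.Lib.Helper18 Cfsg.Agent.Lib.Helper18.ReeMultStmt

universe u v w

theorem main : LMUL.{u, v, w} := by
  intro Γ _ G _ K _ _ m φ x e σ E s₁ hs1 _ hA u v u' v'
  have hmulA : ∀ a b a' b' : K, x 0 a b * x 0 a' b' = x 0 (a + a') (b + b') := by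
    intro a b a' b'
    rw [E.par.x_mul]
    congr 1 <;> ring
  have hone : x 0 0 0 = 1 := by
    have h := hmulA 0 0 0 0
    rw [add_zero] at h
    exact mul_left_cancel (a := x 0 0 0) (by rw [h, mul_one])
  have hinv : ∀ a b : K, (x 0 a b)⁻¹ = x 0 (-a) (-b) := by
    intro a b
    apply inv_eq_of_mul_eq_one_right
    rw [hmulA, add_neg_cancel, add_neg_cancel, hone]
  have hconj : ∀ a b : K, e s₁ * x 0 a b * (e s₁)⁻¹ = x 0 (φ s₁ ^ 3 / s₁ * a) (s₁ * b) := by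
    intro a b
    rw [E.par.e_x s₁ hs1, mul_inv_cancel_right, mul_zero]
  have hcomm : ∀ a b : K, ∃ a'' b'', σ (cm σ E.surj (e s₁) (x 0 a b)) = x 0 a'' b'' := by
    intro a b
    refine ⟨φ s₁ ^ 3 / s₁ * a + -a, s₁ * b + -b, ?_⟩
    rw [map_cm, commutatorElement_def, hconj, hinv, hmulA]
  unfold lft
  have hy : x 0 ((u + u') / (φ s₁ ^ 3 / s₁ - 1)) ((v + v') / (s₁ - 1)) =
      x 0 (u / (φ s₁ ^ 3 / s₁ - 1)) (v / (s₁ - 1)) *
        x 0 (u' / (φ s₁ ^ 3 / s₁ - 1)) (v' / (s₁ - 1)) := by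
    rw [hmulA, add_div, add_div]
  rw [hy, cm_mul_right σ E.surj E.cen]
  congr 1
  obtain ⟨a'', b'', hab⟩ := hcomm (u' / (φ s₁ ^ 3 / s₁ - 1)) (v' / (s₁ - 1))
  have hc := comm_of_cm σ E.surj E.cen (sec σ E.surj (x 0 (u / (φ s₁ ^ 3 / s₁ - 1)) (v / (s₁ - 1))))
    (cm σ E.surj (e s₁) (x 0 (u' / (φ s₁ ^ 3 / s₁ - 1)) (v' / (s₁ - 1))))
    (by rw [sec_spec, hab]; exact hA _ _ _ _)
  rw [hc, mul_inv_cancel_right]

end Cfsg.Agent.Lib.Helper20.ReeMultLMUL
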