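import Mathlib
import Cfsg.Agent.Lib.Helper40.SFStmt

/-!
# S5664, piece TVODD: in characteristic not two a Siegel element gives a transvection.
-/

set_option autoImplicit false

namespace Cfsg.Agent.Lib.Helper20.SFTVODD

open Cfsg.Agent.Lib.Helper40.SFStmt Cfsg.Agent.Lib.Helper94.Basic

universe u

theorem main (h : Orbit.{u}) : TvOdd.{u} := by
  intro F L _ _ _ n c h2 e he d w c₀ hS hd hwd hB
  obtain ⟨e', he', hS'⟩ := h F L n c e he d w c₀ hS hB d (sympForm_self d)
  refine ⟨e' * e⁻¹, c.M.mul_mem he' (c.M.inv_mem he), d, 2, hd, h2, ?_⟩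
  intro x
  obtain ⟨y, rfl⟩ := e.surjective x
  have h1 : (e' * e⁻¹) (e y) = e' y := by
    show e' (e.symm (e y)) = e' y
    rw [e.symm_apply_apply]
  have hfd : ff c.τ (y + ff c.τ y w • d + ff c.τ y d • w + (c₀ * ff c.τ y d) • d) d
      = ff c.τ y d := by
    rw [ff_add_left, ff_add_left, ff_add_left, ff_smul_left, ff_smul_left, ff_smul_left,
      ff_self, hwd]
    ring
  rw [h1, hS' y, hS y, hfd, ff_add_right]
  module

end Cfsg.Agent.Lib.Helper20.SFTVODD
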