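import Mathlib
import Cfsg.Prelude.Def_RootSubgroups
import Cfsg.Prelude.Def_Classical
import Cfsg.Agent.Lib.Helper83.SgStmt

/-!
# Basic lemmas on the hyperbolic quadratic space of S5072 (polar form, isometries, dual vectors)
-/

set_option autoImplicit false
open Matrix

namespace Cfsg.Agent.Lib.Helper20.SgBasic

open Cfsg Cfsg.Agent.Lib.Helper83.SgStmt

universe u

variable {m : ℕ} {F : Type u} [Field F]

theorem bp_eq (v w : Vec m F) :
    bp m F v w = ∑ i : Fin (m + 3), (v (.inl i) * w (.inr i) + w (.inl i) * v (.inr i)) := by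
  unfold bp Cfsg.quadFormPlus
  rw [← Finset.sum_sub_distrib, ← Finset.sum_sub_distrib]
  refine Finset.sum_congr rfl fun i _ => ?_
  simp only [Pi.add_apply]
  ring

theorem bp_comm (v w : Vec m F) : bp m F v w = bp m F w v := by
  rw [bp_eq, bp_eq]
  refine Finset.sum_congr rfl fun i _ => ?_
  ring

theorem bp_add_left (v v' w : Vec m F) : bp m F (v + v') w = bp m F v w + bp m F v' w := by
  rw [bp_eq, bp_eq, bp_eq, ← Finset.sum_add_distrib]
  refine Finset.sum_congr rfl fun i _ => ?_
  simp only [Pi.add_apply]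
  ring

theorem bp_smul_left (a : F) (v w : Vec m F) : bp m F (a • v) w = a * bp m F v w := by
  rw [bp_eq, bp_eq, Finset.mul_sum]
  refine Finset.sum_congr rfl fun i _ => ?_
  simp only [Pi.smul_apply, smul_eq_mul]
  ring

theorem bp_add_right (v w w' : Vec m F) : bp m F v (w + w') = bp m F v w + bp m F v w' := by
  rw [bp_comm v, bp_add_left, bp_comm w, bp_comm w']

theorem bp_smul_right (a : F) (v w : Vec m F) : bp m F v (a • w) = a * bp m F v w := by
  rw [bp_comm v, bp_smul_left, bp_comm w]

theorem bp_zero_left (w : Vec m F) : bp m F 0 w = 0 := by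
  have h := bp_smul_left (0 : F) (0 : Vec m F) w
  rw [zero_smul, zero_mul] at h
  exact h

theorem bp_zero_right (v : Vec m F) : bp m F v 0 = 0 := by
  rw [bp_comm, bp_zero_left]

theorem bp_neg_left (v w : Vec m F) : bp m F (-v) w = - bp m F v w := by
  have h := bp_smul_left (-1 : F) v w
  rw [neg_one_smul, neg_one_mul] at h
  exact h

theorem bp_neg_right (v w : Vec m F) : bp m F v (-w) = - bp m F v w := by
  rw [bp_comm, bp_neg_left, bp_comm]

theorem bp_sub_left (v v' w : Vec m F) : bp m F (v - v') w = bp m F v w - bp m F v' w := by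
  rw [sub_eq_add_neg, bp_add_left, bp_neg_left, ← sub_eq_add_neg]

theorem bp_sub_right (v w w' : Vec m F) : bp m F v (w - w') = bp m F v w - bp m F v w' := by
  rw [sub_eq_add_neg, bp_add_right, bp_neg_right, ← sub_eq_add_neg]

theorem Q_add (v w : Vec m F) :
    Cfsg.quadFormPlus (m + 3) F (v + w) =
      Cfsg.quadFormPlus (m + 3) F v + Cfsg.quadFormPlus (m + 3) F w + bp m F v w := by
  unfold bp
  ring

theorem Q_smul (a : F) (v : Vec m F) :
    Cfsg.quadFormPlus (m + 3) F (a • v) = a * a * Cfsg.quadFormPlus (m + 3) F v := by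
  unfold Cfsg.quadFormPlus
  rw [Finset.mul_sum]
  refine Finset.sum_congr rfl fun i _ => ?_
  simp only [Pi.smul_apply, smul_eq_mul]
  ring

theorem Q_zero : Cfsg.quadFormPlus (m + 3) F (0 : Vec m F) = 0 := by
  have h := Q_smul (0 : F) (0 : Vec m F)
  rw [zero_smul, zero_mul, zero_mul] at h
  exact h

theorem bp_self (v : Vec m F) : bp m F v v = 2 * Cfsg.quadFormPlus (m + 3) F v := by
  have h := Q_add v v
  have h2 : v + v = (2 : F) • v := (two_smul F v).symm
  rw [h2, Q_smul] at h
  linear_combination -h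

theorem bp_single_inl (i : Fin (m + 3)) (w : Vec m F) :
    bp m F (Pi.single (Sum.inl i) 1) w = w (Sum.inr i) := by
  rw [bp_eq]
  simp [Pi.single_apply]

theorem bp_single_inr (i : Fin (m + 3)) (w : Vec m F) :
    bp m F (Pi.single (Sum.inr i) 1) w = w (Sum.inl i) := by
  rw [bp_eq]
  simp [Pi.single_apply]

/-- The vector dual to the coordinate `j`. -/
def dv (j : Fin (m + 3) ⊕ Fin (m + 3)) : Vec m F := Pi.single (Sum.swap j) 1

theorem bp_dv (j : Fin (m + 3) ⊕ Fin (m + 3)) (w : Vec m F) : bp m F (dv j) w = w j := by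
  cases j with
  | inl i => exact bp_single_inr i w
  | inr i => exact bp_single_inl i w

theorem eq_zero_of_bp (w : Vec m F) (h : ∀ v, bp m F v w = 0) : w = 0 := by
  funext j
  rw [← bp_dv j w]
  exact h _

theorem act_add (g : OG m F) (v w : Vec m F) :
    act m F g (v + w) = act m F g v + act m F g w := Matrix.mulVec_add _ _ _

theorem act_smul (g : OG m F) (a : F) (v : Vec m F) :
    act m F g (a • v) = a • act m F g v := Matrix.mulVec_smul _ _ _

theorem act_neg (g : OG m F) (v : Vec m F) : act m F g (-v) = - act m F g v :=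
  Matrix.mulVec_neg _ _

theorem act_sub (g : OG m F) (v w : Vec m F) :
    act m F g (v - w) = act m F g v - act m F g w := by
  rw [sub_eq_add_neg, act_add, act_neg, ← sub_eq_add_neg]

theorem act_zero (g : OG m F) : act m F g 0 = 0 := Matrix.mulVec_zero _

theorem act_one (v : Vec m F) : act m F 1 v = v := by
  unfold act
  simp

theorem act_mul (g h : OG m F) (v : Vec m F) : act m F (g * h) v = act m F g (act m F h v) := by
  unfold act
  simp [Matrix.mulVec_mulVec]

theorem act_inv_act (g : OG m F) (v : Vec m F) : act m F g⁻¹ (act m F g v) = v := by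
  rw [← act_mul, inv_mul_cancel, act_one]

theorem act_act_inv (g : OG m F) (v : Vec m F) : act m F g (act m F g⁻¹ v) = v := by
  rw [← act_mul, mul_inv_cancel, act_one]

theorem Q_act (g : OG m F) (v : Vec m F) :
    Cfsg.quadFormPlus (m + 3) F (act m F g v) = Cfsg.quadFormPlus (m + 3) F v :=
  g.2 v v

theorem bp_act (g : OG m F) (v w : Vec m F) :
    bp m F (act m F g v) (act m F g w) = bp m F v w := by
  unfold bp
  rw [← act_add, Q_act, Q_act, Q_act]

theorem ext_act {g h : OG m F} (hgh : ∀ v, act m F g v = act m F h v) : g = h := by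
  apply Subtype.ext
  apply Units.ext
  apply Matrix.ext_of_mulVec_single
  intro j
  exact hgh _

/-- Dual vectors to a linearly independent pair. -/
theorem exists_dual (p r : Vec m F) (h : LinearIndependent F ![p, r]) :
    ∃ ps rs : Vec m F, bp m F ps p = 1 ∧ bp m F ps r = 0 ∧ bp m F rs p = 0 ∧ bp m F rs r = 1 := by
  have hp : p ≠ 0 := h.ne_zero 0
  obtain ⟨j, hj⟩ : ∃ j, p j ≠ 0 := by
    by_contra hcon
    apply hp
    funext j
    by_contra hj
    exact hcon ⟨j, hj⟩
  have hr : r - (r j / p j) • p ≠ 0 := by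
    intro h0
    have h1 := (LinearIndependent.pair_iff.mp h) (-(r j / p j)) 1 (by
      rw [one_smul, neg_smul, neg_add_eq_sub]; exact h0)
    exact one_ne_zero h1.2
  obtain ⟨k, hk⟩ : ∃ k, (r - (r j / p j) • p) k ≠ 0 := by
    by_contra hcon
    apply hr
    funext k
    by_contra hk
    exact hcon ⟨k, hk⟩
  have hD : p j * r k - p k * r j ≠ 0 := by
    intro h0
    apply hk
    simp only [Pi.sub_apply, Pi.smul_apply, smul_eq_mul]
    field_simp
    linear_combination h0
  refine ⟨(p j * r k - p k * r j)⁻¹ • (r k • dv j - r j • dv k),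
    (p j * r k - p k * r j)⁻¹ • (p j • dv k - p k • dv j), ?_, ?_, ?_, ?_⟩
  · rw [bp_smul_left, bp_sub_left, bp_smul_left, bp_smul_left, bp_dv, bp_dv]
    field_simp
  · rw [bp_smul_left, bp_sub_left, bp_smul_left, bp_smul_left, bp_dv, bp_dv]
    field_simp
    ring
  · rw [bp_smul_left, bp_sub_left, bp_smul_left, bp_smul_left, bp_dv, bp_dv]
    field_simp
    ring
  · rw [bp_smul_left, bp_sub_left, bp_smul_left, bp_smul_left, bp_dv, bp_dv]
    field_simp

end Cfsg.Agent.Lib.Helper20.SgBasic
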