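import Mathlib
import Cfsg.Prelude.Def_RootSubgroups
import Cfsg.Prelude.Def_Classical
import Cfsg.Agent.Lib.Helper83.SgStmt
import Cfsg.Agent.Lib.Helper20.SgBasic

/-!
# S5072 piece CO: two singular lines have a common opposite singular line
-/

set_option autoImplicit false
open Matrix

namespace Cfsg.Agent.Lib.Helper20.SgCO

open Cfsg Cfsg.Agent.Lib.Helper83.SgStmt Cfsg.Agent.Lib.Helper20.SgBasic

universe u

variable {m : ℕ} {F : Type u} [Field F]

theorem Q_dv (j : Fin (m + 3) ⊕ Fin (m + 3)) :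
    Cfsg.quadFormPlus (m + 3) F (dv j : Vec m F) = 0 := by
  unfold Cfsg.quadFormPlus dv
  apply Finset.sum_eq_zero
  intro i _
  cases j <;> simp [Pi.single_apply]

theorem bp_dv_dv (j k : Fin (m + 3) ⊕ Fin (m + 3)) :
    bp m F (dv j) (dv k : Vec m F) = if j = Sum.swap k then 1 else 0 := by
  rw [bp_dv]
  unfold dv
  rw [Pi.single_apply]

theorem exists_coord_ne {p : Vec m F} (hp : p ≠ 0) : ∃ j, p j ≠ 0 := by
  by_contra hcon
  apply hp
  funext j
  by_contra hj
  exact hcon ⟨j, hj⟩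

/-- A singular vector not orthogonal to two given non-zero vectors. -/
theorem exists_sing (p p' : Vec m F) (hp : p ≠ 0) (hp' : p' ≠ 0) :
    ∃ x : Vec m F, Cfsg.quadFormPlus (m + 3) F x = 0 ∧ bp m F x p ≠ 0 ∧ bp m F x p' ≠ 0 := by
  obtain ⟨j, hj⟩ := exists_coord_ne hp
  obtain ⟨k, hk⟩ := exists_coord_ne hp'
  by_cases h1 : p' j = 0
  swap
  · exact ⟨dv j, Q_dv j, by rw [bp_dv]; exact hj, by rw [bp_dv]; exact h1⟩
  by_cases h2 : p k = 0
  swap
  · exact ⟨dv k, Q_dv k, by rw [bp_dv]; exact h2, by rw [bp_dv]; exact hk⟩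
  by_cases h3 : j = Sum.swap k
  swap
  · refine ⟨dv j + dv k, ?_, ?_, ?_⟩
    · rw [Q_add, Q_dv, Q_dv, bp_dv_dv, if_neg h3]
      ring
    · rw [bp_add_left, bp_dv, bp_dv, h2, add_zero]
      exact hj
    · rw [bp_add_left, bp_dv, bp_dv, h1, zero_add]
      exact hk
  subst h3
  obtain ⟨l, hl1, hl2⟩ : ∃ l : Fin (m + 3) ⊕ Fin (m + 3), l ≠ k ∧ l ≠ Sum.swap k := by
    cases k with
    | inl i =>
      obtain ⟨i', hi'⟩ := exists_ne i
      exact ⟨Sum.inl i', fun h => hi' (Sum.inl.inj h), fun h => by simp at h⟩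
    | inr i =>
      obtain ⟨i', hi'⟩ := exists_ne i
      exact ⟨Sum.inr i', fun h => hi' (Sum.inr.inj h), fun h => by simp at h⟩
  have s1 : Sum.swap l ≠ k := fun h => hl2 (by rw [← h, Sum.swap_swap])
  have s2 : Sum.swap l ≠ Sum.swap k := fun h => hl1 (by
    have h' := congrArg Sum.swap h
    simpa using h')
  have s3 : Sum.swap k ≠ Sum.swap (Sum.swap l) := fun h => hl2 (by
    rw [Sum.swap_swap] at h
    exact h.symm)
  have s4 : k ≠ Sum.swap (Sum.swap l) := fun h => hl1 (by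
    rw [Sum.swap_swap] at h
    exact h.symm)
  by_cases c1 : p l = 0
  swap
  · by_cases c1' : p' l = 0
    swap
    · exact ⟨dv l, Q_dv l, by rw [bp_dv]; exact c1, by rw [bp_dv]; exact c1'⟩
    · refine ⟨dv l + dv k, ?_, ?_, ?_⟩
      · rw [Q_add, Q_dv, Q_dv, bp_dv_dv, if_neg hl2]
        ring
      · rw [bp_add_left, bp_dv, bp_dv, h2, add_zero]
        exact c1
      · rw [bp_add_left, bp_dv, bp_dv, c1', zero_add]
        exact hk
  by_cases c2 : p (Sum.swap l) = 0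
  swap
  · by_cases c2' : p' (Sum.swap l) = 0
    swap
    · exact ⟨dv (Sum.swap l), Q_dv _, by rw [bp_dv]; exact c2, by rw [bp_dv]; exact c2'⟩
    · refine ⟨dv (Sum.swap l) + dv k, ?_, ?_, ?_⟩
      · rw [Q_add, Q_dv, Q_dv, bp_dv_dv, if_neg s2]
        ring
      · rw [bp_add_left, bp_dv, bp_dv, h2, add_zero]
        exact c2
      · rw [bp_add_left, bp_dv, bp_dv, c2', zero_add]
        exact hk
  by_cases c3 : p' l = 0
  swap
  · refine ⟨dv (Sum.swap k) + dv l, ?_, ?_, ?_⟩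
    · rw [Q_add, Q_dv, Q_dv, bp_dv_dv, if_neg (fun h => s2 h.symm)]
      ring
    · rw [bp_add_left, bp_dv, bp_dv, c1, add_zero]
      exact hj
    · rw [bp_add_left, bp_dv, bp_dv, h1, zero_add]
      exact c3
  by_cases c4 : p' (Sum.swap l) = 0
  swap
  · refine ⟨dv (Sum.swap k) + dv (Sum.swap l), ?_, ?_, ?_⟩
    · rw [Q_add, Q_dv, Q_dv, bp_dv_dv, if_neg s3]
      ring
    · rw [bp_add_left, bp_dv, bp_dv, c2, add_zero]
      exact hj
    · rw [bp_add_left, bp_dv, bp_dv, h1, zero_add]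
      exact c4
  refine ⟨(dv k + dv (Sum.swap k)) + (dv l + (-1 : F) • dv (Sum.swap l)), ?_, ?_, ?_⟩
  · have e1 : bp m F (dv k) (dv (Sum.swap k) : Vec m F) = 1 := by
      rw [bp_dv_dv, if_pos (Sum.swap_swap k).symm]
    have e2 : bp m F (dv l) (dv (Sum.swap l) : Vec m F) = 1 := by
      rw [bp_dv_dv, if_pos (Sum.swap_swap l).symm]
    have e3 : bp m F (dv k) (dv l : Vec m F) = 0 := by
      rw [bp_dv_dv, if_neg (fun h => s1 h.symm)]
    have e4 : bp m F (dv k) (dv (Sum.swap l) : Vec m F) = 0 := by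
      rw [bp_dv_dv, if_neg s4]
    have e5 : bp m F (dv (Sum.swap k)) (dv l : Vec m F) = 0 := by
      rw [bp_dv_dv, if_neg (fun h => s2 h.symm)]
    have e6 : bp m F (dv (Sum.swap k)) (dv (Sum.swap l) : Vec m F) = 0 := by
      rw [bp_dv_dv, if_neg s3]
    simp only [Q_add, Q_smul, Q_dv, bp_add_left, bp_add_right, bp_smul_right, e1, e2, e3, e4, e5,
      e6]
    ring
  · simp only [bp_add_left, bp_smul_left, bp_dv, h2, c1, c2]
    simpa using hj
  · simp only [bp_add_left, bp_smul_left, bp_dv, h1, c3, c4]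
    simpa using hk

/-- A vector orthogonal to `x` and to neither `a` nor `b`. -/
theorem exists_perp_two (x a b : Vec m F) (h1 : LinearIndependent F ![x, a])
    (h2 : LinearIndependent F ![x, b]) :
    ∃ v : Vec m F, bp m F v x = 0 ∧ bp m F v a ≠ 0 ∧ bp m F v b ≠ 0 := by
  obtain ⟨_, v₁, -, -, hv1x, hv1a⟩ := exists_dual x a h1
  obtain ⟨_, v₂, -, -, hv2x, hv2b⟩ := exists_dual x b h2
  by_cases c1 : bp m F v₁ b = 0
  swap
  · exact ⟨v₁, hv1x, by rw [hv1a]; exact one_ne_zero, c1⟩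
  by_cases c2 : bp m F v₂ a = 0
  swap
  · exact ⟨v₂, hv2x, c2, by rw [hv2b]; exact one_ne_zero⟩
  refine ⟨v₁ + v₂, ?_, ?_, ?_⟩
  · rw [bp_add_left, hv1x, hv2x, add_zero]
  · rw [bp_add_left, hv1a, c2, add_zero]
    exact one_ne_zero
  · rw [bp_add_left, c1, hv2b, zero_add]
    exact one_ne_zero

/-- A non-singular vector orthogonal to `x`, `r₁`, `r₂` when `β(r₁, r₂) ≠ 0`. -/
theorem exists_nonsing (x r₁ r₂ : Vec m F) (hx : x ≠ 0) (h11 : bp m F r₁ r₁ = 0)
    (h22 : bp m F r₂ r₂ = 0) (hx1 : bp m F x r₁ = 0) (hx2 : bp m F x r₂ = 0)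
    (hb : bp m F r₁ r₂ ≠ 0) :
    ∃ w : Vec m F, bp m F w x = 0 ∧ bp m F w r₁ = 0 ∧ bp m F w r₂ = 0 ∧
      Cfsg.quadFormPlus (m + 3) F w ≠ 0 := by
  by_contra hcon
  have hs : ∀ w : Vec m F, bp m F w x = 0 → bp m F w r₁ = 0 → bp m F w r₂ = 0 →
      Cfsg.quadFormPlus (m + 3) F w = 0 := by
    intro w k1 k2 k3
    by_contra k4
    exact hcon ⟨w, k1, k2, k3, k4⟩
  have hβ : ∀ w w' : Vec m F, bp m F w x = 0 → bp m F w r₁ = 0 → bp m F w r₂ = 0 →
      bp m F w' x = 0 → bp m F w' r₁ = 0 → bp m F w' r₂ = 0 → bp m F w w' = 0 := by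
    intro w w' k1 k2 k3 k1' k2' k3'
    have e := Q_add w w'
    rw [hs w k1 k2 k3, hs w' k1' k2' k3', hs (w + w') (by rw [bp_add_left, k1, k1', add_zero])
      (by rw [bp_add_left, k2, k2', add_zero]) (by rw [bp_add_left, k3, k3', add_zero])] at e
    linear_combination -e
  obtain ⟨b, hbdef⟩ : ∃ b, b = bp m F r₁ r₂ := ⟨_, rfl⟩
  have h12 : bp m F r₁ r₂ = b := hbdef.symm
  rw [h12] at hb
  have h21 : bp m F r₂ r₁ = b := by rw [bp_comm, h12]
  have h1x : bp m F r₁ x = 0 := by rw [bp_comm]; exact hx1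
  have h2x : bp m F r₂ x = 0 := by rw [bp_comm]; exact hx2
  obtain ⟨j, hj⟩ := exists_coord_ne hx
  obtain ⟨xs, hxs⟩ : ∃ xs : Vec m F, bp m F xs x = 1 :=
    ⟨(x j)⁻¹ • dv j, by rw [bp_smul_left, bp_dv, inv_mul_cancel₀ hj]⟩
  obtain ⟨xo, hxo⟩ : ∃ xo : Vec m F,
      xo = xs - (bp m F xs r₂ / b) • r₁ - (bp m F xs r₁ / b) • r₂ := ⟨_, rfl⟩
  have hxox : bp m F xo x = 1 := by
    rw [hxo, bp_sub_left, bp_sub_left, bp_smul_left, bp_smul_left, h1x, h2x, hxs]
    ring
  have hxo1 : bp m F xo r₁ = 0 := by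
    rw [hxo, bp_sub_left, bp_sub_left, bp_smul_left, bp_smul_left, h11, h21,
      div_mul_cancel₀ _ hb]
    ring
  have hxo2 : bp m F xo r₂ = 0 := by
    rw [hxo, bp_sub_left, bp_sub_left, bp_smul_left, bp_smul_left, h22, h12,
      div_mul_cancel₀ _ hb]
    ring
  obtain ⟨ρ, hρ⟩ : ∃ ρ : Vec m F → Vec m F, ∀ z, ρ z =
      z - (bp m F z r₂ / b) • r₁ - (bp m F z r₁ / b) • r₂ - bp m F z x • xo :=
    ⟨_, fun z => rfl⟩
  have hρx : ∀ z, bp m F (ρ z) x = 0 := by
    intro z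
    rw [hρ, bp_sub_left, bp_sub_left, bp_sub_left, bp_smul_left, bp_smul_left, bp_smul_left,
      h1x, h2x, hxox]
    ring
  have hρ1 : ∀ z, bp m F (ρ z) r₁ = 0 := by
    intro z
    rw [hρ, bp_sub_left, bp_sub_left, bp_sub_left, bp_smul_left, bp_smul_left, bp_smul_left,
      h11, h21, hxo1, div_mul_cancel₀ _ hb]
    ring
  have hρ2 : ∀ z, bp m F (ρ z) r₂ = 0 := by
    intro z
    rw [hρ, bp_sub_left, bp_sub_left, bp_sub_left, bp_smul_left, bp_smul_left, bp_smul_left,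
      h22, h12, hxo2, div_mul_cancel₀ _ hb]
    ring
  have hkey : ∀ z z' : Vec m F, bp m F (ρ z) z' = bp m F z' x * bp m F (ρ z) xo := by
    intro z z'
    have e := hβ (ρ z) (ρ z') (hρx z) (hρ1 z) (hρ2 z) (hρx z') (hρ1 z') (hρ2 z')
    rw [hρ z', bp_sub_right, bp_sub_right, bp_sub_right, bp_smul_right, bp_smul_right,
      bp_smul_right, hρ1 z, hρ2 z] at e
    linear_combination e
  have hz : ∀ z : Vec m F, ρ z = bp m F (ρ z) xo • x := by
    intro z
    have e : ρ z - bp m F (ρ z) xo • x = 0 := by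
      apply eq_zero_of_bp
      intro v
      rw [bp_sub_right, bp_smul_right, bp_comm v (ρ z), hkey z v]
      ring
    exact sub_eq_zero.mp e
  have hspan : Submodule.span F (Set.range ![r₁, r₂, xo, x]) = ⊤ := by
    rw [eq_top_iff]
    intro z _
    have e : z = (bp m F z r₂ / b) • r₁ + (bp m F z r₁ / b) • r₂ + bp m F z x • xo
        + ρ z := by
      rw [hρ z]
      abel
    rw [e, hz z]
    refine Submodule.add_mem _ (Submodule.add_mem _ (Submodule.add_mem _ ?_ ?_) ?_) ?_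
    · exact Submodule.smul_mem _ _ (Submodule.subset_span ⟨0, rfl⟩)
    · exact Submodule.smul_mem _ _ (Submodule.subset_span ⟨1, rfl⟩)
    · exact Submodule.smul_mem _ _ (Submodule.subset_span ⟨2, rfl⟩)
    · exact Submodule.smul_mem _ _ (Submodule.subset_span ⟨3, rfl⟩)
  have hle : Module.finrank F (Submodule.span F (Set.range ![r₁, r₂, xo, x])) ≤
      Fintype.card (Fin 4) := finrank_range_le_card (R := F) _
  rw [hspan, finrank_top, Module.finrank_fintype_fun_eq_card, Fintype.card_sum, Fintype.card_fin,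
    Fintype.card_fin] at hle
  omega

theorem line_aux (p r x : Vec m F) (hl : IsLine m F p r) (ha : bp m F x p ≠ 0) :
    Cfsg.quadFormPlus (m + 3) F (r - (bp m F x r / bp m F x p) • p) = 0 ∧
    bp m F x (r - (bp m F x r / bp m F x p) • p) = 0 ∧
    LinearIndependent F ![x, r - (bp m F x r / bp m F x p) • p] := by
  obtain ⟨hli, hQp, hQr, hQpr⟩ := hl
  have hpr : bp m F p r = 0 := by
    unfold bp
    rw [hQpr, hQp, hQr]
    ring
  have hrp : bp m F r p = 0 := by rw [bp_comm]; exact hpr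
  have hpp : bp m F p p = 0 := by rw [bp_self, hQp, mul_zero]
  refine ⟨?_, ?_, ?_⟩
  · rw [sub_eq_add_neg, ← neg_smul, Q_add, Q_smul, hQr, hQp, bp_smul_right, hrp]
    ring
  · rw [bp_sub_right, bp_smul_right, div_mul_cancel₀ _ ha]
    ring
  · rw [LinearIndependent.pair_iff]
    intro s t hst
    have h1 : s * bp m F x p = 0 := by
      have e := congrArg (fun v => bp m F v p) hst
      simp only [bp_add_left, bp_smul_left, bp_sub_left, hrp, hpp, bp_zero_left] at e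
      linear_combination e
    have hs : s = 0 := by
      rcases mul_eq_zero.mp h1 with h | h
      · exact h
      · exact absurd h ha
    refine ⟨hs, ?_⟩
    rw [hs, zero_smul, zero_add, smul_sub, smul_smul] at hst
    have h2 := (LinearIndependent.pair_iff.mp hli) (-(t * (bp m F x r / bp m F x p))) t (by
      rw [neg_smul, neg_add_eq_sub]
      exact hst)
    exact h2.2

theorem det_ne (p r x y : Vec m F) (ha : bp m F x p ≠ 0)
    (hy : bp m F y (r - (bp m F x r / bp m F x p) • p) ≠ 0) :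
    bp m F p x * bp m F r y - bp m F p y * bp m F r x ≠ 0 := by
  have e : bp m F p x * bp m F r y - bp m F p y * bp m F r x =
      bp m F x p * bp m F y (r - (bp m F x r / bp m F x p) • p) := by
    rw [bp_sub_right, bp_smul_right, mul_sub, ← mul_assoc, mul_div_cancel₀ _ ha, bp_comm p x,
      bp_comm r y, bp_comm p y, bp_comm r x]
    ring
  rw [e]
  exact mul_ne_zero ha hy

theorem main : CO.{u} := by
  intro m F _ p r p' r' hl hl'
  have hp : p ≠ 0 := hl.1.ne_zero 0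
  have hp' : p' ≠ 0 := hl'.1.ne_zero 0
  obtain ⟨x, hQx, hxp, hxp'⟩ := exists_sing p p' hp hp'
  obtain ⟨hQ1, hx1, hli1⟩ := line_aux p r x hl hxp
  obtain ⟨hQ2, hx2, hli2⟩ := line_aux p' r' x hl' hxp'
  obtain ⟨r₁, hr₁⟩ : ∃ r₁, r₁ = r - (bp m F x r / bp m F x p) • p := ⟨_, rfl⟩
  obtain ⟨r₂, hr₂⟩ : ∃ r₂, r₂ = r' - (bp m F x r' / bp m F x p') • p' := ⟨_, rfl⟩
  rw [← hr₁] at hQ1 hx1 hli1
  rw [← hr₂] at hQ2 hx2 hli2
  have h11 : bp m F r₁ r₁ = 0 := by rw [bp_self, hQ1, mul_zero]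
  have h22 : bp m F r₂ r₂ = 0 := by rw [bp_self, hQ2, mul_zero]
  have hx0 : x ≠ 0 := by
    intro h0
    apply hxp
    rw [h0, bp_zero_left]
  have hy : ∃ y : Vec m F, Cfsg.quadFormPlus (m + 3) F y = 0 ∧ bp m F x y = 0 ∧
      bp m F y r₁ ≠ 0 ∧ bp m F y r₂ ≠ 0 := by
    by_cases hb : bp m F r₁ r₂ = 0
    · obtain ⟨v, hvx, hv1, hv2⟩ := exists_perp_two x r₁ r₂ hli1 hli2
      refine ⟨v - (Cfsg.quadFormPlus (m + 3) F v / bp m F v r₁) • r₁, ?_, ?_, ?_, ?_⟩
      · have key : Cfsg.quadFormPlus (m + 3) F v / bp m F v r₁ * bp m F v r₁ =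
            Cfsg.quadFormPlus (m + 3) F v := div_mul_cancel₀ _ hv1
        rw [sub_eq_add_neg, ← neg_smul, Q_add, Q_smul, hQ1, bp_smul_right]
        linear_combination -key
      · rw [bp_sub_right, bp_smul_right, hx1, bp_comm x v, hvx]
        ring
      · rw [bp_sub_left, bp_smul_left, h11, mul_zero, sub_zero]
        exact hv1
      · rw [bp_sub_left, bp_smul_left, hb, mul_zero, sub_zero]
        exact hv2
    · obtain ⟨w, hwx, hw1, hw2, hQw⟩ := exists_nonsing x r₁ r₂ hx0 h11 h22 hx1 hx2 hb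
      have key : -(Cfsg.quadFormPlus (m + 3) F w) / bp m F r₁ r₂ * bp m F r₁ r₂ =
          -(Cfsg.quadFormPlus (m + 3) F w) := div_mul_cancel₀ _ hb
      refine ⟨r₁ + (-(Cfsg.quadFormPlus (m + 3) F w) / bp m F r₁ r₂) • r₂ + w, ?_, ?_, ?_, ?_⟩
      · simp only [Q_add, Q_smul, bp_add_left, bp_smul_left, bp_smul_right, hQ1, hQ2,
          bp_comm r₁ w, bp_comm r₂ w, hw1, hw2]
        linear_combination key
      · simp only [bp_add_right, bp_smul_right, hx1, hx2, bp_comm x w, hwx]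
        ring
      · simp only [bp_add_left, bp_smul_left, h11, hw1, bp_comm r₂ r₁]
        rw [key]
        simpa using hQw
      · simp only [bp_add_left, bp_smul_left, h22, hw2]
        simpa using hb
  obtain ⟨y, hQy, hxy, hy1, hy2⟩ := hy
  refine ⟨x, y, ⟨?_, hQx, hQy, ?_⟩, ?_, ?_⟩
  · rw [LinearIndependent.pair_iff]
    intro s t hst
    have e1 := congrArg (fun v => bp m F v r₁) hst
    simp only [bp_add_left, bp_smul_left, hx1, bp_zero_left] at e1
    have ht : t = 0 := by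
      rcases mul_eq_zero.mp (by linear_combination e1 : t * bp m F y r₁ = 0) with h | h
      · exact h
      · exact absurd h hy1
    have e2 := congrArg (fun v => bp m F v p) hst
    simp only [bp_add_left, bp_smul_left, bp_zero_left, ht] at e2
    have hs : s = 0 := by
      rcases mul_eq_zero.mp (by linear_combination e2 : s * bp m F x p = 0) with h | h
      · exact h
      · exact absurd h hxp
    exact ⟨hs, ht⟩
  · rw [Q_add, hQx, hQy, hxy]
    ring
  · apply det_ne p r x y hxp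
    rw [← hr₁]
    exact hy1
  · apply det_ne p' r' x y hxp'
    rw [← hr₂]
    exact hy2

end Cfsg.Agent.Lib.Helper20.SgCO
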