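import Mathlib
import Cfsg.Prelude.Def_RootSubgroups
import Cfsg.Prelude.Def_Classical
import Cfsg.Agent.Lib.Helper83.SgStmt
import Cfsg.Agent.Lib.Helper20.SgBasic

/-!
# S5072 piece R1B: the commutator case for Siegel transvection groups
-/

set_option autoImplicit false
open Matrix

namespace Cfsg.Agent.Lib.Helper20.SgR1B

open Cfsg Cfsg.Agent.Lib.Helper83.SgStmt Cfsg.Agent.Lib.Helper20.SgBasic

universe u

variable {m : ℕ} {F : Type u} [Field F]

theorem sieg_unique {x y : Vec m F} {c : F} {g h : OG m F} (hg : IsSieg m F x y c g)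
    (hh : IsSieg m F x y c h) : g = h :=
  ext_act fun v => (hg v).trans (hh v).symm

theorem sieg_zero {x y : Vec m F} {g : OG m F} (hg : IsSieg m F x y 0 g) : g = 1 :=
  ext_act fun v => by rw [hg v, act_one, zero_smul, add_zero]

theorem sieg_inv {x y : Vec m F} (hxx : bp m F x x = 0) (hyy : bp m F y y = 0)
    (hxy : bp m F x y = 0) {c : F} {g : OG m F} (hg : IsSieg m F x y c g) :
    IsSieg m F x y (-c) g⁻¹ := by
  have hyx : bp m F y x = 0 := by rw [bp_comm]; exact hxy
  intro v
  have h2 : act m F g (v + (-c) • (bp m F v y • x - bp m F v x • y)) = v := by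
    rw [hg]
    simp only [bp_add_left, bp_sub_left, bp_smul_left, hxx, hyy, hxy, hyx]
    funext j
    simp only [Pi.add_apply, Pi.sub_apply, Pi.smul_apply, smul_eq_mul]
    ring
  calc act m F g⁻¹ v
      = act m F g⁻¹ (act m F g (v + (-c) • (bp m F v y • x - bp m F v x • y))) := by rw [h2]
    _ = _ := act_inv_act _ _

theorem main : R1B.{u} := by
  intro hSIEG m F _ p r p' r' hl hl' e1 e2 e3 e4 hli
  obtain ⟨hE, hM⟩ := hSIEG
  have hpp : bp m F p p = 0 := by rw [bp_self, hl.2.1, mul_zero]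
  have hrr : bp m F r r = 0 := by rw [bp_self, hl.2.2.1, mul_zero]
  have hpr : bp m F p r = 0 := by
    unfold bp
    rw [hl.2.2.2, hl.2.1, hl.2.2.1]
    ring
  have hrp : bp m F r p = 0 := by rw [bp_comm]; exact hpr
  have hp'p' : bp m F p' p' = 0 := by rw [bp_self, hl'.2.1, mul_zero]
  have hr'r' : bp m F r' r' = 0 := by rw [bp_self, hl'.2.2.1, mul_zero]
  have hp'r' : bp m F p' r' = 0 := by
    unfold bp
    rw [hl'.2.2.2, hl'.2.1, hl'.2.2.1]
    ring
  have hr'p' : bp m F r' p' = 0 := by rw [bp_comm]; exact hp'r'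
  have f1 : bp m F p' p = 0 := by rw [bp_comm]; exact e1
  have f2 : bp m F r' p = 0 := by rw [bp_comm]; exact e2
  have f3 : bp m F p' r = 0 := by rw [bp_comm]; exact e3
  have f4 : bp m F r' r = 1 := by rw [bp_comm]; exact e4
  have hl'' : IsLine m F p' p := by
    refine ⟨?_, hl'.2.1, hl.2.1, ?_⟩
    · rw [LinearIndependent.pair_iff]
      intro s t hst
      have h0 := (LinearIndependent.pair_iff.mp hli) t s (by rw [add_comm]; exact hst)
      exact ⟨h0.2, h0.1⟩
    · rw [Q_add, hl'.2.1, hl.2.1, f1]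
      ring
  -- the commutator formula
  have hcomm_el : ∀ (c c' : F) (a b : OG m F), IsSieg m F p r c a → IsSieg m F p' r' c' b →
      IsSieg m F p' p (c * c') (a * b * a⁻¹ * b⁻¹) := by
    intro c c' a b ha hb
    have hai := sieg_inv hpp hrr hpr ha
    have hbi := sieg_inv hp'p' hr'r' hp'r' hb
    have ha' : ∀ v, act m F a v = v + c • (bp m F v r • p - bp m F v p • r) := ha
    have hb' : ∀ v, act m F b v = v + c' • (bp m F v r' • p' - bp m F v p' • r') := hb
    have hai' : ∀ v, act m F a⁻¹ v = v + (-c) • (bp m F v r • p - bp m F v p • r) := hai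
    have hbi' : ∀ v, act m F b⁻¹ v = v + (-c') • (bp m F v r' • p' - bp m F v p' • r') := hbi
    intro v
    simp only [act_mul, ha', hb', hai', hbi', bp_add_left, bp_sub_left, bp_smul_left,
      hpp, hrr, hpr, hrp, hp'p', hr'r', hp'r', hr'p', e1, e2, e3, e4, f1, f2, f3, f4]
    funext j
    simp only [Pi.add_apply, Pi.sub_apply, Pi.smul_apply, smul_eq_mul]
    ring
  -- centrality
  have hcent : ∀ (d e : F) (t x : OG m F), IsSieg m F p' p d t →
      (IsSieg m F p r e x ∨ IsSieg m F p' r' e x) → t * x = x * t := by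
    intro d e t x ht hx
    have ht' : ∀ v, act m F t v = v + d • (bp m F v p • p' - bp m F v p' • p) := ht
    apply ext_act
    intro v
    rcases hx with hx | hx
    · have hx' : ∀ v, act m F x v = v + e • (bp m F v r • p - bp m F v p • r) := hx
      simp only [act_mul, ht', hx', bp_add_left, bp_sub_left, bp_smul_left,
        hpp, hrr, hpr, hrp, hp'p', hr'r', hp'r', hr'p', e1, e2, e3, e4, f1, f2, f3, f4]
      funext j
      simp only [Pi.add_apply, Pi.sub_apply, Pi.smul_apply, smul_eq_mul]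
      ring
    · have hx' : ∀ v, act m F x v = v + e • (bp m F v r' • p' - bp m F v p' • r') := hx
      simp only [act_mul, ht', hx', bp_add_left, bp_sub_left, bp_smul_left,
        hpp, hrr, hpr, hrp, hp'p', hr'r', hp'r', hr'p', e1, e2, e3, e4, f1, f2, f3, f4]
      funext j
      simp only [Pi.add_apply, Pi.sub_apply, Pi.smul_apply, smul_eq_mul]
      ring
  -- the commutator subgroup
  have hcomm : ⁅Sg m F p r, Sg m F p' r'⁆ = Sg m F p' p := by
    apply le_antisymm
    · rw [Subgroup.commutator_le]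
      intro a ha b hb
      obtain ⟨c, hc⟩ := (hM m F p r hl a).mp ha
      obtain ⟨c', hc'⟩ := (hM m F p' r' hl' b).mp hb
      rw [commutatorElement_def]
      exact (hM m F p' p hl'' _).mpr ⟨c * c', hcomm_el c c' a b hc hc'⟩
    · intro g hg
      obtain ⟨d, hd⟩ := (hM m F p' p hl'' g).mp hg
      obtain ⟨a, ha⟩ := hE m F p r hl 1
      obtain ⟨b, hb⟩ := hE m F p' r' hl' d
      have h1 := hcomm_el 1 d a b ha hb
      rw [one_mul] at h1
      have h2 : g = a * b * a⁻¹ * b⁻¹ := sieg_unique hd h1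
      rw [h2, ← commutatorElement_def]
      exact Subgroup.commutator_mem_commutator ((hM m F p r hl a).mpr ⟨1, ha⟩)
        ((hM m F p' r' hl' b).mpr ⟨d, hb⟩)
  refine ⟨?_, ?_, ?_, ?_⟩
  · rw [hcomm]
    exact (mem_Sig m F).mpr ⟨p', p, hl'', rfl⟩
  · intro c hc x hx
    rw [hcomm] at hc
    obtain ⟨d, hd⟩ := (hM m F p' p hl'' c).mp hc
    have hle : Sg m F p r ⊔ Sg m F p' r' ≤ Subgroup.centralizer {c} := by
      apply sup_le
      · intro y hy
        obtain ⟨e, he⟩ := (hM m F p r hl y).mp hy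
        rw [Subgroup.mem_centralizer_iff]
        intro h hh
        rw [Set.mem_singleton_iff] at hh
        rw [hh]
        exact hcent d e c y hd (Or.inl he)
      · intro y hy
        obtain ⟨e, he⟩ := (hM m F p' r' hl' y).mp hy
        rw [Subgroup.mem_centralizer_iff]
        intro h hh
        rw [Set.mem_singleton_iff] at hh
        rw [hh]
        exact hcent d e c y hd (Or.inr he)
    have h0 := hle hx
    rw [Subgroup.mem_centralizer_iff] at h0
    exact h0 c rfl
  · intro a ha hane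
    rw [hcomm]
    obtain ⟨c, hc⟩ := (hM m F p r hl a).mp ha
    have hc0 : c ≠ 0 := by
      intro h0
      rw [h0] at hc
      exact hane (sieg_zero hc)
    apply le_antisymm
    · rw [Subgroup.closure_le]
      rintro x ⟨b, hb, rfl⟩
      obtain ⟨c', hc'⟩ := (hM m F p' r' hl' b).mp hb
      exact (hM m F p' p hl'' _).mpr ⟨c * c', hcomm_el c c' a b hc hc'⟩
    · intro g hg
      obtain ⟨d, hd⟩ := (hM m F p' p hl'' g).mp hg
      obtain ⟨b, hb⟩ := hE m F p' r' hl' (d / c)
      have h1 := hcomm_el c (d / c) a b hc hb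
      rw [mul_div_cancel₀ d hc0] at h1
      have h2 : g = a * b * a⁻¹ * b⁻¹ := sieg_unique hd h1
      rw [h2]
      exact Subgroup.subset_closure ⟨b, (hM m F p' r' hl' b).mpr ⟨_, hb⟩, rfl⟩
  · intro b hb hbne
    rw [hcomm]
    obtain ⟨c', hc'⟩ := (hM m F p' r' hl' b).mp hb
    have hc0 : c' ≠ 0 := by
      intro h0
      rw [h0] at hc'
      exact hbne (sieg_zero hc')
    apply le_antisymm
    · rw [Subgroup.closure_le]
      rintro x ⟨a, ha, rfl⟩
      obtain ⟨c, hc⟩ := (hM m F p r hl a).mp ha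
      exact (hM m F p' p hl'' _).mpr ⟨c * c', hcomm_el c c' a b hc hc'⟩
    · intro g hg
      obtain ⟨d, hd⟩ := (hM m F p' p hl'' g).mp hg
      obtain ⟨a, ha⟩ := hE m F p r hl (d / c')
      have h1 := hcomm_el (d / c') c' a b ha hc'
      rw [div_mul_cancel₀ d hc0] at h1
      have h2 : g = a * b * a⁻¹ * b⁻¹ := sieg_unique hd h1
      rw [h2]
      exact Subgroup.subset_closure ⟨a, (hM m F p r hl a).mpr ⟨_, ha⟩, rfl⟩

end Cfsg.Agent.Lib.Helper20.SgR1B
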