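import Mathlib
import Cfsg.Prelude.Def_RootSubgroups
import Cfsg.Prelude.Def_Classical
import Cfsg.Agent.Lib.Helper83.SgStmt
import Cfsg.Agent.Lib.Helper20.SgBasic

/-!
# S5072 piece SIEGG: an isometry fixing `⟨p, r⟩^⊥` pointwise is a Siegel transvection
-/

set_option autoImplicit false
open Matrix

namespace Cfsg.Agent.Lib.Helper20.SgSIEGG

open Cfsg Cfsg.Agent.Lib.Helper83.SgStmt Cfsg.Agent.Lib.Helper20.SgBasic

universe u

theorem main : SIEGG.{u} := by
  intro m F _ p r hl σ hσ
  obtain ⟨hli, hQp, hQr, hQpr⟩ := hl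
  have hpr : bp m F p r = 0 := by
    unfold bp
    rw [hQpr, hQp, hQr]
    ring
  obtain ⟨ps, rs, h1, h2, h3, h4⟩ := exists_dual p r hli
  -- the component in the perp of the line
  have hperp1 : ∀ v : Vec m F, bp m F (v - bp m F v p • ps - bp m F v r • rs) p = 0 := by
    intro v
    rw [bp_sub_left, bp_sub_left, bp_smul_left, bp_smul_left, h1, h3]
    ring
  have hperp2 : ∀ v : Vec m F, bp m F (v - bp m F v p • ps - bp m F v r • rs) r = 0 := by
    intro v
    rw [bp_sub_left, bp_sub_left, bp_smul_left, bp_smul_left, h2, h4]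
    ring
  have hfix : ∀ v : Vec m F, act m F σ v =
      v + bp m F v p • (act m F σ ps - ps) + bp m F v r • (act m F σ rs - rs) := by
    intro v
    have h0 := hσ _ (hperp1 v) (hperp2 v)
    rw [act_sub, act_sub, act_smul, act_smul] at h0
    rw [smul_sub, smul_sub]
    have e : act m F σ v = (act m F σ v - bp m F v p • act m F σ ps - bp m F v r • act m F σ rs)
        + bp m F v p • act m F σ ps + bp m F v r • act m F σ rs := by abel
    rw [e, h0]
    abel
  have horth : ∀ w : Vec m F,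
      (∀ y : Vec m F, bp m F y p = 0 → bp m F y r = 0 → bp m F w y = 0) →
      w = bp m F w ps • p + bp m F w rs • r := by
    intro w hw
    have h0 : w - (bp m F w ps • p + bp m F w rs • r) = 0 := by
      apply eq_zero_of_bp
      intro v
      have h0 := hw _ (hperp1 v) (hperp2 v)
      rw [bp_sub_right, bp_sub_right, bp_smul_right, bp_smul_right] at h0
      rw [bp_sub_right, bp_add_right, bp_smul_right, bp_smul_right, bp_comm v w]
      linear_combination h0
    exact sub_eq_zero.mp h0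
  have hdiff : ∀ u : Vec m F, ∀ y : Vec m F, bp m F y p = 0 → bp m F y r = 0 →
      bp m F (act m F σ u - u) y = 0 := by
    intro u y hy1 hy2
    rw [bp_sub_left]
    have h0 := bp_act σ u y
    rw [hσ y hy1 hy2] at h0
    rw [h0]
    ring
  have ha := horth _ (hdiff ps)
  have hb := horth _ (hdiff rs)
  obtain ⟨a₁, ha₁⟩ : ∃ a₁, a₁ = bp m F (act m F σ ps - ps) ps := ⟨_, rfl⟩
  obtain ⟨a₂, ha₂⟩ : ∃ a₂, a₂ = bp m F (act m F σ ps - ps) rs := ⟨_, rfl⟩
  obtain ⟨b₁, hb₁⟩ : ∃ b₁, b₁ = bp m F (act m F σ rs - rs) ps := ⟨_, rfl⟩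
  obtain ⟨b₂, hb₂⟩ : ∃ b₂, b₂ = bp m F (act m F σ rs - rs) rs := ⟨_, rfl⟩
  rw [← ha₁, ← ha₂] at ha
  rw [← hb₁, ← hb₂] at hb
  have hform : ∀ v : Vec m F, act m F σ v =
      v + ((bp m F v p * a₁ + bp m F v r * b₁) • p + (bp m F v p * a₂ + bp m F v r * b₂) • r) := by
    intro v
    rw [hfix v, ha, hb]
    simp only [smul_add, smul_smul, add_smul]
    abel
  have hkey : ∀ v : Vec m F,
      (bp m F v p * a₁ + bp m F v r * b₁) * bp m F v p +
        (bp m F v p * a₂ + bp m F v r * b₂) * bp m F v r = 0 := by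
    intro v
    have h0 := Q_act σ v
    rw [hform v, Q_add, Q_add, Q_smul, Q_smul, hQp, hQr, bp_smul_left, bp_smul_right, hpr,
      bp_add_right, bp_smul_right, bp_smul_right] at h0
    linear_combination h0
  have k1 := hkey ps
  have k2 := hkey rs
  have k3 := hkey (ps + rs)
  rw [h1, h2] at k1
  rw [h3, h4] at k2
  rw [bp_add_left, bp_add_left, h1, h2, h3, h4] at k3
  have e1 : a₁ = 0 := by linear_combination k1
  have e2 : b₂ = 0 := by linear_combination k2
  have e3 : b₁ = -a₂ := by linear_combination k3 - k1 - k2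
  refine ⟨b₁, ?_⟩
  intro v
  rw [hform v, e1, e2]
  have e4 : a₂ = -b₁ := by rw [e3]; ring
  rw [e4]
  simp only [mul_zero, zero_add, add_zero, smul_sub, smul_smul, mul_neg, neg_smul]
  congr 1
  rw [sub_eq_add_neg]
  congr 2
  · rw [mul_comm]
  · rw [mul_comm]

end Cfsg.Agent.Lib.Helper20.SgSIEGG
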