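import Mathlib
import Cfsg.Agent.Lib.Lead.TuanStmt

/-!
# S0997 part T, piece `Cen`: an involution centralizing a subgroup of order `2 ^ b`.
-/

set_option autoImplicit false

namespace Cfsg.Agent.Lib.Helper20.TSCen

open Cfsg Cfsg.Agent.Lib.Lead

universe u

theorem main : Tuan.Cen.{u} := by
  intro G _ _ p _ c
  haveI : Fact (Nat.Prime 2) := ⟨Nat.prime_two⟩
  have he : 4 ≤ c.e := by
    rw [c.he]
    calc 4 = 2 ^ 2 := by norm_num
      _ ≤ 2 ^ c.j := Nat.pow_le_pow_right (by norm_num) c.hj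
  -- b ≥ 1
  have hb : 0 < c.b := by
    by_contra h0
    have hb0 : c.b = 0 := by omega
    have hn := c.hn
    rw [hb0, pow_zero, one_mul] at hn
    have hd : c.e ∣ c.e + 1 := ⟨Nat.card (Sylow p G), by rw [← hn]; ring⟩
    have hd1 : c.e ∣ 1 := (Nat.dvd_add_right (dvd_refl c.e)).mp hd
    have := Nat.le_of_dvd one_pos hd1
    omega
  have hdvd : 2 ^ c.b ∣ Nat.card G := by
    rw [c.hcard, mul_assoc]; exact dvd_mul_right _ _
  obtain ⟨K, hK⟩ := Sylow.exists_subgroup_card_pow_prime 2 hdvd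
  obtain ⟨k, hk0, hkc⟩ := IsPGroup.card_center_eq_prime_pow hK hb
  have h2 : 2 ∣ Nat.card (Subgroup.center K) := by
    rw [hkc]; exact dvd_pow_self 2 (by omega)
  obtain ⟨t, ht⟩ := exists_prime_orderOf_dvd_card' 2 h2
  refine ⟨((t : K) : G), ?_, ?_⟩
  · rw [Subgroup.orderOf_coe, Subgroup.orderOf_coe]; exact ht
  · rw [← hK]
    apply Subgroup.card_dvd_of_le
    intro g hg
    rw [Subgroup.mem_centralizer_iff]
    intro h hh
    rw [Set.mem_singleton_iff] at hh
    subst hh
    have hc := Subgroup.mem_center_iff.mp t.2 ⟨g, hg⟩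
    have := congrArg (Subtype.val : K → G) hc
    simpa using this.symm

end Cfsg.Agent.Lib.Helper20.TSCen
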