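import Mathlib
import Cfsg.Agent.Lib.Lead.TuanStmt

/-!
# S0997 part T, piece `Goal`: `|G| < p ^ 3` from `InvEx` and `CzBound`.
-/

set_option autoImplicit false

namespace Cfsg.Agent.Lib.Helper20.TSGoal

open Cfsg Cfsg.Agent.Lib.Lead

universe u

theorem main (h1 : Tuan.InvEx.{u}) (h2 : Tuan.CzBound.{u}) : Tuan.Goal.{u} := by
  intro G _ _ p _ c
  obtain ⟨z, hz2, hzx, hdvd⟩ := h1 p c
  have hb := h2 p c z hz2 hzx
  have hpos : 0 < Nat.card (Subgroup.centralizer ({z} : Set G)) := Nat.card_pos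
  have hle : 2 ^ c.b ≤ Nat.card (Subgroup.centralizer ({z} : Set G)) := Nat.le_of_dvd hpos hdvd
  have h3 : 2 ^ c.b * 2 ^ c.b ≤ 2 ^ c.b * (2 * c.e) := by
    calc 2 ^ c.b * 2 ^ c.b ≤ Nat.card (Subgroup.centralizer ({z} : Set G)) ^ 2 := by
          rw [sq]; exact Nat.mul_le_mul hle hle
      _ ≤ _ := hb
  have h4 : 2 ^ c.b ≤ 2 * c.e := Nat.le_of_mul_le_mul_left h3 (by positivity)
  rw [c.hcard]
  have hp := c.hp
  have he : 4 ≤ c.e := by
    rw [c.he]
    calc 4 = 2 ^ 2 := by norm_num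
      _ ≤ 2 ^ c.j := Nat.pow_le_pow_right (by norm_num) c.hj
  have h5 : 2 * c.e < p := by omega
  have h6 : c.e + 1 ≤ p := by omega
  have hp0 : 0 < p := by omega
  calc 2 ^ c.b * p * (c.e + 1) ≤ (2 * c.e) * p * p := by gcongr
    _ < p * p * p := by
        apply Nat.mul_lt_mul_of_pos_right _ hp0
        exact Nat.mul_lt_mul_of_pos_right h5 hp0
    _ = p ^ 3 := by ring

end Cfsg.Agent.Lib.Helper20.TSGoal
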