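import Mathlib
import Cfsg.Agent.Lib.Lead.TuanStmt

/-!
# S0997 part T, piece `Pairs`: an involution inverting `x` gives at least `p` factorizations
of `x` as a product of two conjugates of it.
-/

set_option autoImplicit false

namespace Cfsg.Agent.Lib.Helper20.TSPairs

open Cfsg Cfsg.Agent.Lib.Lead

universe u

theorem main : Tuan.Pairs.{u} := by
  intro G _ _ p _ c z hz2 hzx
  classical
  have hp := c.hp
  have hpp : p.Prime := Fact.out
  have hxp : c.x ^ p = 1 := by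
    have := pow_orderOf_eq_one c.x
    rwa [c.hx] at this
  have hzz : z * z = 1 := by
    have := pow_orderOf_eq_one z
    rw [hz2, sq] at this; exact this
  -- z * x^k = x^(-k) * z
  have hzk : ∀ k : ℤ, z * c.x ^ k = c.x ^ (-k) * z := by
    intro k
    have h1 : z * c.x ^ k * z⁻¹ = (z * c.x * z⁻¹) ^ k := by
      rw [conj_zpow]
    rw [hzx, inv_zpow, ← zpow_neg] at h1
    rw [← h1]; group
  have hq : ∀ i : ℤ, c.x ^ i * z * (c.x ^ i)⁻¹ = c.x ^ (2 * i) * z := by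
    intro i
    rw [← zpow_neg, mul_assoc, hzk (-i), neg_neg, ← mul_assoc, ← zpow_add]
    congr 2; ring
  have hq' : ∀ i : ℕ, c.x ^ i * z * (c.x ^ i)⁻¹ = c.x ^ (2 * i) * z := by
    intro i
    have := hq (i : ℤ)
    rw [zpow_natCast] at this
    rw [this]
    congr 1
    rw [← zpow_natCast]; congr 1
  have hprod : ∀ i : ℕ, (c.x ^ i * z * (c.x ^ i)⁻¹) *
      (c.x ^ (i + c.e) * z * (c.x ^ (i + c.e))⁻¹) = c.x := by
    intro i
    have e1 := hq (i : ℤ)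
    have e2 := hq ((i + c.e : ℕ) : ℤ)
    rw [zpow_natCast] at e1 e2
    rw [e1, e2]
    calc c.x ^ (2 * (i : ℤ)) * z * (c.x ^ (2 * ((i + c.e : ℕ) : ℤ)) * z)
        = c.x ^ (2 * (i : ℤ)) * (z * c.x ^ (2 * ((i + c.e : ℕ) : ℤ))) * z := by group
      _ = c.x ^ (2 * (i : ℤ)) * (c.x ^ (-(2 * ((i + c.e : ℕ) : ℤ))) * z) * z := by rw [hzk]
      _ = c.x ^ (2 * (i : ℤ)) * c.x ^ (-(2 * ((i + c.e : ℕ) : ℤ))) * (z * z) := by group
      _ = c.x ^ ((1 : ℤ) - (p : ℤ)) := by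
          rw [hzz, mul_one, ← zpow_add]; congr 1; omega
      _ = c.x := by
          rw [zpow_sub, zpow_one, zpow_natCast, hxp, inv_one, mul_one]
  let f : Fin p → {q : G × G // IsConj z q.1 ∧ IsConj z q.2 ∧ q.1 * q.2 = c.x} := fun i =>
    ⟨(c.x ^ (i : ℕ) * z * (c.x ^ (i : ℕ))⁻¹,
      c.x ^ ((i : ℕ) + c.e) * z * (c.x ^ ((i : ℕ) + c.e))⁻¹),
      isConj_iff.mpr ⟨_, rfl⟩, isConj_iff.mpr ⟨_, rfl⟩, hprod i⟩
  have hf : Function.Injective f := by
    intro i i' h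
    have h1 : c.x ^ (i : ℕ) * z * (c.x ^ (i : ℕ))⁻¹ = c.x ^ (i' : ℕ) * z * (c.x ^ (i' : ℕ))⁻¹ :=
      congrArg (fun q => q.1.1) h
    rw [hq', hq'] at h1
    have h2 : c.x ^ (2 * (i : ℕ)) = c.x ^ (2 * (i' : ℕ)) := mul_right_cancel h1
    rw [pow_eq_pow_iff_modEq, c.hx] at h2
    have hcop : Nat.gcd p 2 = 1 := by
      have : Nat.Coprime p 2 := by
        rw [Nat.coprime_comm, Nat.Prime.coprime_iff_not_dvd Nat.prime_two]
        omega
      exact this
    have h3 : (i : ℕ) ≡ (i' : ℕ) [MOD p] := Nat.ModEq.cancel_left_of_coprime hcop h2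
    exact Fin.ext (Nat.ModEq.eq_of_lt_of_lt h3 i.2 i'.2)
  have := Nat.card_le_card_of_injective f hf
  rwa [Nat.card_eq_fintype_card, Fintype.card_fin] at this

end Cfsg.Agent.Lib.Helper20.TSPairs
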