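import Mathlib

set_option autoImplicit false

namespace Cfsg.Agent.Lib.Helper20.USylA

variable {G : Type*} [Group G]

/-- a conjugation-stable generating set gives a conjugation-stable closure -/
theorem conj_closure (S : Set G) (g : G) (h : ∀ s ∈ S, g * s * g⁻¹ ∈ Subgroup.closure S) :
    ∀ y ∈ Subgroup.closure S, g * y * g⁻¹ ∈ Subgroup.closure S := by
  have hle : Subgroup.closure S ≤ (Subgroup.closure S).comap (MulAut.conj g).toMonoidHom := by
    rw [Subgroup.closure_le]
    intro s hs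
    simpa [MulAut.conj_apply] using h s hs
  intro y hy
  simpa [MulAut.conj_apply] using hle hy

theorem mem_normalizer_of_conj (H : Subgroup G) (g : G) (h1 : ∀ y ∈ H, g * y * g⁻¹ ∈ H)
    (h2 : ∀ y ∈ H, g⁻¹ * y * g ∈ H) : g ∈ Subgroup.normalizer (H : Set G) := by
  rw [Subgroup.mem_normalizer_iff]
  intro y
  constructor
  · exact h1 y
  · intro hy
    have h3 := h2 _ hy
    have e : g⁻¹ * (g * y * g⁻¹) * g = y := by group
    rwa [e] at h3

/-- normalizers grow in `p`-groups (relative form) -/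
theorem exists_normalizer_mem {p : ℕ} [Fact p.Prime] [Finite G] (P D : Subgroup G)
    (hP : IsPGroup p P) (hDP : D ≤ P) (hne : D ≠ P) :
    ∃ y ∈ P, y ∈ Subgroup.normalizer (D : Set G) ∧ y ∉ D := by
  have hnil : Group.IsNilpotent P := hP.isNilpotent
  have hcond : NormalizerCondition P := Group.normalizerCondition_of_isNilpotent
  have hlt : D.subgroupOf P < ⊤ := by
    rw [lt_top_iff_ne_top]
    intro h
    rw [Subgroup.subgroupOf_eq_top] at h
    exact hne (le_antisymm hDP h)
  have h2 := hcond (D.subgroupOf P) hlt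
  obtain ⟨y, hyN, hyD⟩ := SetLike.exists_of_lt h2
  refine ⟨y, y.2, ?_, ?_⟩
  · rw [Subgroup.mem_normalizer_iff] at hyN ⊢
    intro h
    constructor
    · intro hh
      have h3 := (hyN ⟨h, hDP hh⟩).mp (by rw [Subgroup.mem_subgroupOf]; exact hh)
      rw [Subgroup.mem_subgroupOf] at h3
      simpa using h3
    · intro hh
      have hhP : h ∈ P := by
        have h4 : (y : G)⁻¹ * ((y : G) * h * (y : G)⁻¹) * (y : G) ∈ P :=
          P.mul_mem (P.mul_mem (P.inv_mem y.2) (hDP hh)) y.2
        have e : (y : G)⁻¹ * ((y : G) * h * (y : G)⁻¹) * (y : G) = h := by group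
        rwa [e] at h4
      have h3 := (hyN ⟨h, hhP⟩).mpr (by rw [Subgroup.mem_subgroupOf]; simpa using hh)
      rw [Subgroup.mem_subgroupOf] at h3
      exact h3
  · intro h
    exact hyD (by rw [Subgroup.mem_subgroupOf]; exact h)

/-- if the normalizer of every `p`-subgroup containing `x` is a `p`-group, then `x` lies in
at most one Sylow `p`-subgroup -/
theorem sylow_unique_of_normalizers {p : ℕ} [Fact p.Prime] [Finite G] (x : G)
    (h : ∀ D : Subgroup G, IsPGroup p D → x ∈ D → IsPGroup p (Subgroup.normalizer (D : Set G))) :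
    ∀ (k : ℕ) (P Q : Sylow p G), x ∈ P → x ∈ Q →
      Nat.card (P : Subgroup G) - Nat.card ((P : Subgroup G) ⊓ (Q : Subgroup G) : Subgroup G) ≤ k →
      P = Q := by
  have hbase : ∀ (P Q : Sylow p G),
      Nat.card (P : Subgroup G) ≤ Nat.card ((P : Subgroup G) ⊓ (Q : Subgroup G) : Subgroup G) →
      P = Q := by
    intro P Q hle
    have heq : ((P : Subgroup G) ⊓ (Q : Subgroup G) : Subgroup G) = P :=
      Subgroup.eq_of_le_of_card_ge inf_le_left hle
    have hPQ : (P : Subgroup G) ≤ Q := by rw [← heq]; exact inf_le_right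
    have := P.is_maximal' Q.isPGroup' hPQ
    exact Sylow.ext this.symm
  intro k
  induction k with
  | zero =>
    intro P Q _ _ hk
    exact hbase P Q (by omega)
  | succ k ih =>
    intro P Q hxP hxQ hk
    by_contra hne
    have hDP : ((P : Subgroup G) ⊓ (Q : Subgroup G) : Subgroup G) ≠ P := by
      intro heq
      exact hne (hbase P Q (by rw [heq]))
    have hDQ : ((P : Subgroup G) ⊓ (Q : Subgroup G) : Subgroup G) ≠ Q := by
      intro heq
      have hQP : (Q : Subgroup G) ≤ P := by rw [← heq]; exact inf_le_left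
      have := Q.is_maximal' P.isPGroup' hQP
      exact hne (Sylow.ext this)
    obtain ⟨y, hyP, hyN, hyD⟩ := exists_normalizer_mem (P : Subgroup G) _ P.isPGroup' inf_le_left hDP
    obtain ⟨z, hzQ, hzN, hzD⟩ := exists_normalizer_mem (Q : Subgroup G) _ Q.isPGroup' inf_le_right hDQ
    have hDp : IsPGroup p ((P : Subgroup G) ⊓ (Q : Subgroup G) : Subgroup G) :=
      P.isPGroup'.to_le inf_le_left
    have hxD : x ∈ ((P : Subgroup G) ⊓ (Q : Subgroup G) : Subgroup G) := ⟨hxP, hxQ⟩
    obtain ⟨R, hR⟩ := (h _ hDp hxD).exists_le_sylow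
    have hxR : x ∈ R := hR (Subgroup.le_normalizer hxD)
    have hDR : ((P : Subgroup G) ⊓ (Q : Subgroup G) : Subgroup G) ≤ R :=
      Subgroup.le_normalizer.trans hR
    have hcardPQ : Nat.card (P : Subgroup G) = Nat.card (Q : Subgroup G) := by
      rw [P.card_eq_multiplicity, Q.card_eq_multiplicity]
    have hlt1 : Nat.card ((P : Subgroup G) ⊓ (Q : Subgroup G) : Subgroup G) <
        Nat.card ((P : Subgroup G) ⊓ (R : Subgroup G) : Subgroup G) := by
      by_contra hcon
      have heq : ((P : Subgroup G) ⊓ (Q : Subgroup G) : Subgroup G) = (P : Subgroup G) ⊓ R :=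
        Subgroup.eq_of_le_of_card_ge (le_inf inf_le_left hDR) (by omega)
      exact hyD (heq ▸ ⟨hyP, hR hyN⟩)
    have hlt2 : Nat.card ((P : Subgroup G) ⊓ (Q : Subgroup G) : Subgroup G) <
        Nat.card ((Q : Subgroup G) ⊓ (R : Subgroup G) : Subgroup G) := by
      by_contra hcon
      have heq : ((P : Subgroup G) ⊓ (Q : Subgroup G) : Subgroup G) = (Q : Subgroup G) ⊓ R :=
        Subgroup.eq_of_le_of_card_ge (le_inf inf_le_right hDR) (by omega)
      exact hzD (heq ▸ ⟨hzQ, hR hzN⟩)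
    have h1 : P = R := ih P R hxP hxR (by omega)
    have h2 : Q = R := ih Q R hxQ hxR (by omega)
    exact hne (h1.trans h2.symm)

/-- an "index two" subgroup of a 2-group above a proper subgroup -/
theorem exists_idx2 [Finite G] (D H : Subgroup G) (hD : IsPGroup 2 D) (hHD : H ≤ D)
    (hne : ∃ d ∈ D, d ∉ H) :
    ∃ M : Subgroup G, M ≤ D ∧ H ≤ M ∧ (∃ d ∈ D, d ∉ M) ∧
      ∀ d ∈ D, ∀ d' ∈ D, (d * d' ∈ M ↔ (d ∈ M ↔ d' ∈ M)) := by
  have : Fact (Nat.Prime 2) := ⟨Nat.prime_two⟩
  obtain ⟨N, hN⟩ := IsPGroup.iff_card.mp hD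
  have hH' : IsPGroup 2 (H.subgroupOf D) := hD.to_subgroup _
  obtain ⟨n, hn⟩ := IsPGroup.iff_card.mp hH'
  have hnN : n < N := by
    by_contra hcon
    have hle : Nat.card D ≤ Nat.card (H.subgroupOf D) := by
      rw [hN, hn]; exact Nat.pow_le_pow_right (by norm_num) (by omega)
    have htop : H.subgroupOf D = ⊤ := Subgroup.eq_top_of_le_card _ hle
    obtain ⟨d, hdD, hdH⟩ := hne
    have hmem : (⟨d, hdD⟩ : D) ∈ H.subgroupOf D := by rw [htop]; trivial
    exact hdH (by rwa [Subgroup.mem_subgroupOf] at hmem)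
  obtain ⟨K, hKcard, hHK⟩ := Sylow.exists_subgroup_card_pow_prime_le 2 (n := n) (m := N - 1)
    (by rw [hN]; exact pow_dvd_pow 2 (by omega)) (H.subgroupOf D) hn (by omega)
  have hidx : K.index = 2 := by
    have h1 := K.card_mul_index
    rw [hKcard, hN] at h1
    have h2 : (2 : ℕ) ^ N = 2 ^ (N - 1) * 2 := by
      conv_lhs => rw [show N = (N - 1) + 1 by omega]
      rw [pow_succ]
    rw [h2] at h1
    exact Nat.eq_of_mul_eq_mul_left (by positivity) h1
  have hmem : ∀ d (hd : d ∈ D), d ∈ K.map D.subtype ↔ (⟨d, hd⟩ : D) ∈ K := by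
    intro d hd
    constructor
    · rintro ⟨y, hy, hyd⟩
      have : y = ⟨d, hd⟩ := Subtype.ext hyd
      rwa [← this]
    · intro h
      exact ⟨⟨d, hd⟩, h, rfl⟩
  refine ⟨K.map D.subtype, Subgroup.map_subtype_le K, ?_, ?_, ?_⟩
  · intro h hh
    rw [hmem h (hHD hh)]
    exact hHK (by rw [Subgroup.mem_subgroupOf]; exact hh)
  · have hKtop : K ≠ ⊤ := by
      intro h
      rw [h, Subgroup.index_top] at hidx
      omega
    have hex : ∃ y : D, y ∉ K := by
      by_contra hcon
      apply hKtop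
      rw [Subgroup.eq_top_iff']
      intro y
      by_contra hy
      exact hcon ⟨y, hy⟩
    obtain ⟨y, hy⟩ := hex
    exact ⟨y, y.2, fun h => hy ((hmem y y.2).mp h)⟩
  · intro d hd d' hd'
    rw [hmem _ (D.mul_mem hd hd'), hmem d hd, hmem d' hd']
    exact Subgroup.mul_mem_iff_of_index_two hidx (a := ⟨d, hd⟩) (b := ⟨d', hd'⟩)

end Cfsg.Agent.Lib.Helper20.USylA
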