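import Mathlib

set_option autoImplicit false

namespace Cfsg.Agent.Lib.Helper20.USylB

open Equiv Equiv.Perm

set_option linter.unusedSectionVars false

variable {α : Type*} [Fintype α] [DecidableEq α]

/-- no three distinct fixed points in `O` -/
def condF (x : Perm α) (O : Finset α) : Prop :=
  ∀ p ∈ O, ∀ q ∈ O, ∀ r ∈ O, x p = p → x q = q → x r = r → p = q ∨ p = r ∨ q = r

/-- points of the same exact 2-power period (at least 2) lie in the same cycle -/
def condN (x : Perm α) (O : Finset α) : Prop :=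
  ∀ a ∈ O, ∀ c ∈ O, ∀ j : ℕ, (x ^ 2 ^ (j + 1)) a = a → (x ^ 2 ^ j) a ≠ a →
    (x ^ 2 ^ (j + 1)) c = c → (x ^ 2 ^ j) c ≠ c → ∃ i : ℕ, (x ^ i) a = c

theorem condF_mono {x : Perm α} {O O' : Finset α} (h : O' ⊆ O) (hF : condF x O) : condF x O' :=
  fun p hp q hq r hr => hF p (h hp) q (h hq) r (h hr)

theorem condN_mono {x : Perm α} {O O' : Finset α} (h : O' ⊆ O) (hN : condN x O) : condN x O' :=
  fun a ha c hc => hN a (h ha) c (h hc)

theorem period_lemma (x : Perm α) (k : ℕ) (hxk : x ^ 2 ^ k = 1) (P : Finset α)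
    (hP : ∀ a ∈ P, x a ∈ P) (t : ℕ) (hcard : P.card = 2 ^ t) :
    ∀ a ∈ P, (x ^ 2 ^ t) a = a := by
  intro a ha
  have hper : Function.IsPeriodicPt (⇑x) (2 ^ k) a := by
    unfold Function.IsPeriodicPt Function.IsFixedPt
    rw [Equiv.Perm.iterate_eq_pow, hxk]; rfl
  have hdvd := hper.minimalPeriod_dvd
  obtain ⟨i, hik, hi⟩ := (Nat.dvd_prime_pow Nat.prime_two).mp hdvd
  have hiter : ∀ j : ℕ, (⇑x)^[j] a ∈ P := by
    intro j
    induction j with
    | zero => simpa using ha
    | succ j ih => rw [Function.iterate_succ_apply']; exact hP _ ih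
  have hle : Function.minimalPeriod (⇑x) a ≤ P.card := by
    have h1 := Finset.card_le_card_of_injOn (s := Finset.range (Function.minimalPeriod (⇑x) a))
      (t := P) (fun j => (⇑x)^[j] a) (fun j _ => hiter j)
      (by rw [Finset.coe_range]; exact Function.iterate_injOn_Iio_minimalPeriod)
    simpa using h1
  rw [hi, hcard] at hle
  have hit : i ≤ t := (Nat.pow_le_pow_iff_right (by norm_num)).mp hle
  have h2 : Function.IsPeriodicPt (⇑x) (2 ^ t) a := by
    rw [Function.isPeriodicPt_iff_minimalPeriod_dvd, hi]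
    exact pow_dvd_pow 2 hit
  unfold Function.IsPeriodicPt Function.IsFixedPt at h2
  rw [Equiv.Perm.iterate_eq_pow] at h2
  exact h2

theorem fix_le_two {x : Perm α} {O : Finset α} (hF : condF x O) (U : Finset α) (hU : U ⊆ O) :
    (U.filter (fun a => x a = a)).card ≤ 2 := by
  by_contra hcon
  have h3 : 2 < (U.filter (fun a => x a = a)).card := by omega
  obtain ⟨p, q, r, hp, hq, hr, hpq, hpr, hqr⟩ := Finset.two_lt_card_iff.mp h3
  rw [Finset.mem_filter] at hp hq hr
  rcases hF p (hU hp.1) q (hU hq.1) r (hU hr.1) hp.2 hq.2 hr.2 with h | h | h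
  · exact hpq h
  · exact hpr h
  · exact hqr h

theorem pow_mod_apply (x : Perm α) (M : ℕ) (a : α) (h : (x ^ M) a = a) (i : ℕ) :
    (x ^ i) a = (x ^ (i % M)) a := by
  conv_lhs => rw [← Nat.mod_add_div i M]
  rw [pow_add, pow_mul, Equiv.Perm.mul_apply, Equiv.Perm.pow_apply_eq_self_of_apply_eq_self h]

theorem size_bound {x : Perm α} {O : Finset α} (hN : condN x O) :
    ∀ (j : ℕ) (U : Finset α), U ⊆ O → (∀ a ∈ U, (x ^ 2 ^ j) a = a) →
      U.card + 2 ≤ 2 ^ (j + 1) + (U.filter (fun a => x a = a)).card := by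
  intro j
  induction j with
  | zero =>
    intro U _ h
    have hfil : U.filter (fun a => x a = a) = U := by
      apply Finset.filter_true_of_mem
      intro a ha
      simpa using h a ha
    rw [hfil]; omega
  | succ j ih =>
    intro U hU h
    have hsplit : (U.filter (fun a => (x ^ 2 ^ j) a = a)).card +
        (U.filter (fun a => ¬ (x ^ 2 ^ j) a = a)).card = U.card :=
      Finset.card_filter_add_card_filter_not _
    have h1 := ih (U.filter (fun a => (x ^ 2 ^ j) a = a)) ((Finset.filter_subset _ _).trans hU)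
      (fun a ha => (Finset.mem_filter.mp ha).2)
    have hfix : ((U.filter (fun a => (x ^ 2 ^ j) a = a)).filter (fun a => x a = a)).card ≤
        (U.filter (fun a => x a = a)).card :=
      Finset.card_le_card (Finset.filter_subset_filter _ (Finset.filter_subset _ _))
    have h2 : (U.filter (fun a => ¬ (x ^ 2 ^ j) a = a)).card ≤ 2 ^ (j + 1) := by
      rcases (U.filter (fun a => ¬ (x ^ 2 ^ j) a = a)).eq_empty_or_nonempty with he | ⟨a0, ha0⟩
      · rw [he]; simp
      · have ha0' := Finset.mem_filter.mp ha0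
        have hsub : U.filter (fun a => ¬ (x ^ 2 ^ j) a = a) ⊆
            (Finset.range (2 ^ (j + 1))).image (fun i => (x ^ i) a0) := by
          intro c hc
          have hc' := Finset.mem_filter.mp hc
          obtain ⟨i, hi⟩ := hN a0 (hU ha0'.1) c (hU hc'.1) j (h a0 ha0'.1) ha0'.2
            (h c hc'.1) hc'.2
          rw [Finset.mem_image]
          refine ⟨i % 2 ^ (j + 1), Finset.mem_range.mpr (Nat.mod_lt _ (by positivity)), ?_⟩
          rw [← pow_mod_apply x _ a0 (h a0 ha0'.1) i, hi]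
        calc (U.filter (fun a => ¬ (x ^ 2 ^ j) a = a)).card
            ≤ ((Finset.range (2 ^ (j + 1))).image (fun i => (x ^ i) a0)).card :=
              Finset.card_le_card hsub
          _ ≤ (Finset.range (2 ^ (j + 1))).card := Finset.card_image_le
          _ = 2 ^ (j + 1) := Finset.card_range _
    have e : (2 : ℕ) ^ (j + 1 + 1) = 2 ^ (j + 1) + 2 ^ (j + 1) := by ring
    omega

theorem typeI (x : Perm α) (k : ℕ) (hxk : x ^ 2 ^ k = 1) (O : Finset α)
    (hOx : ∀ a ∈ O, x a ∈ O) (b : ℕ) (hcard : O.card = 2 ^ b) (hN : condN x O)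
    (hnofix : ∀ p ∈ O, x p ≠ p) : ∀ u ∈ O, ∀ v ∈ O, ∃ i : ℕ, (x ^ i) u = v := by
  have hper := period_lemma x k hxk O hOx b hcard
  have hne : O.Nonempty := by
    rw [← Finset.card_pos, hcard]; positivity
  obtain ⟨a1, ha1⟩ := hne
  cases b with
  | zero =>
    exfalso
    exact hnofix a1 ha1 (by simpa using hper a1 ha1)
  | succ b =>
    have hex : ∃ a0 ∈ O, (x ^ 2 ^ b) a0 ≠ a0 := by
      by_contra hcon
      have hall : ∀ a ∈ O, (x ^ 2 ^ b) a = a := by
        intro a ha
        by_contra h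
        exact hcon ⟨a, ha, h⟩
      have h1 := size_bound hN b O (Finset.Subset.refl _) hall
      have h0 : O.filter (fun a => x a = a) = ∅ := by
        apply Finset.filter_false_of_mem
        intro a ha
        exact hnofix a ha
      rw [h0, hcard] at h1
      simp at h1
    obtain ⟨a0, ha0, hmove⟩ := hex
    have hperpt : Function.IsPeriodicPt (⇑x) (2 ^ (b + 1)) a0 := by
      unfold Function.IsPeriodicPt Function.IsFixedPt
      rw [Equiv.Perm.iterate_eq_pow]; exact hper a0 ha0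
    obtain ⟨i, hib, hi⟩ := (Nat.dvd_prime_pow Nat.prime_two).mp hperpt.minimalPeriod_dvd
    have hib' : i = b + 1 := by
      by_contra hne
      have hle : i ≤ b := by omega
      have h3 : Function.IsPeriodicPt (⇑x) (2 ^ b) a0 := by
        rw [Function.isPeriodicPt_iff_minimalPeriod_dvd, hi]; exact pow_dvd_pow 2 hle
      unfold Function.IsPeriodicPt Function.IsFixedPt at h3
      rw [Equiv.Perm.iterate_eq_pow] at h3
      exact hmove h3
    rw [hib'] at hi
    have hiter : ∀ j : ℕ, (x ^ j) a0 ∈ O := by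
      intro j
      induction j with
      | zero => simpa using ha0
      | succ j ih => rw [pow_succ', Equiv.Perm.mul_apply]; exact hOx _ ih
    have hCcard : ((Finset.range (2 ^ (b + 1))).image (fun j => (x ^ j) a0)).card = 2 ^ (b + 1) := by
      rw [Finset.card_image_of_injOn, Finset.card_range]
      rw [Finset.coe_range, ← hi]
      have hinj := Function.iterate_injOn_Iio_minimalPeriod (f := ⇑x) (x := a0)
      intro j1 hj1 j2 hj2 h
      exact hinj hj1 hj2 (by simpa [Equiv.Perm.iterate_eq_pow] using h)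
    have hCO : (Finset.range (2 ^ (b + 1))).image (fun j => (x ^ j) a0) = O := by
      apply Finset.eq_of_subset_of_card_le
      · intro c hc
        rw [Finset.mem_image] at hc
        obtain ⟨j, _, rfl⟩ := hc
        exact hiter j
      · rw [hCcard, hcard]
    have hall : ∀ v ∈ O, ∃ j : ℕ, (x ^ j) a0 = v := by
      intro v hv
      rw [← hCO, Finset.mem_image] at hv
      obtain ⟨j, _, hj⟩ := hv
      exact ⟨j, hj⟩
    intro u hu v hv
    obtain ⟨i1, hi1⟩ := hall u hu
    obtain ⟨i2, hi2⟩ := hall v hv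
    refine ⟨i2 + (2 ^ k - 1) * i1, ?_⟩
    have e : (2 ^ k - 1) * i1 + i1 = 2 ^ k * i1 := by
      have h1 : 1 ≤ 2 ^ k := Nat.one_le_two_pow
      calc (2 ^ k - 1) * i1 + i1 = (2 ^ k - 1 + 1) * i1 := by ring
        _ = 2 ^ k * i1 := by rw [Nat.sub_add_cancel h1]
    rw [← hi1, ← Equiv.Perm.mul_apply, ← pow_add, add_assoc, e, pow_add, Equiv.Perm.mul_apply,
      pow_mul, hxk, one_pow, Equiv.Perm.one_apply]
    exact hi2

open Classical in
/-- the orbit of `a` under `D`, as a finset -/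
noncomputable def orb (D : Subgroup (Perm α)) (a : α) : Finset α :=
  Finset.univ.filter (fun b => ∃ d ∈ D, d a = b)

theorem mem_orb {D : Subgroup (Perm α)} {a b : α} : b ∈ orb D a ↔ ∃ d ∈ D, d a = b := by
  unfold orb; simp

theorem self_mem_orb (D : Subgroup (Perm α)) (a : α) : a ∈ orb D a :=
  mem_orb.mpr ⟨1, D.one_mem, rfl⟩

theorem orb_inv {D : Subgroup (Perm α)} {a : α} : ∀ d ∈ D, ∀ c ∈ orb D a, d c ∈ orb D a := by
  intro d hd c hc
  obtain ⟨d', hd', rfl⟩ := mem_orb.mp hc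
  exact mem_orb.mpr ⟨d * d', D.mul_mem hd hd', rfl⟩

theorem orb_card {D : Subgroup (Perm α)} (hD : IsPGroup 2 D) (a : α) :
    ∃ t : ℕ, (orb D a).card = 2 ^ t := by
  obtain ⟨t, ht⟩ := hD.card_orbit (a : α)
  refine ⟨t, ?_⟩
  have hset : MulAction.orbit (↥D) a = (↑(orb D a) : Set α) := by
    ext b
    simp only [MulAction.mem_orbit_iff, Finset.mem_coe, mem_orb]
    constructor
    · rintro ⟨d, rfl⟩; exact ⟨d, d.2, rfl⟩
    · rintro ⟨d, hd, rfl⟩; exact ⟨⟨d, hd⟩, rfl⟩
  rw [← ht, Nat.card_coe_set_eq, hset, Set.ncard_coe_finset]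

theorem image_inv {D : Subgroup (Perm α)} {g : Perm α}
    (hg : g ∈ Subgroup.normalizer (D : Set (Perm α))) (P : Finset α)
    (hP : ∀ d ∈ D, ∀ c ∈ P, d c ∈ P) : ∀ d ∈ D, ∀ c ∈ P.image g, d c ∈ P.image g := by
  intro d hd c hc
  obtain ⟨c', hc', rfl⟩ := Finset.mem_image.mp hc
  have hd' : g⁻¹ * d * g ∈ D := by
    have h1 := (Subgroup.mem_normalizer_iff.mp ((Subgroup.normalizer (D : Set (Perm α))).inv_mem hg) d).mp hd
    simpa using h1
  refine Finset.mem_image.mpr ⟨(g⁻¹ * d * g) c', hP _ hd' c' hc', ?_⟩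
  simp [Equiv.Perm.mul_apply]

theorem orb_disj {D : Subgroup (Perm α)} {h : Perm α}
    (hh : h ∈ Subgroup.normalizer (D : Set (Perm α))) (a : α)
    (hha : h a ∉ orb D a) : Disjoint (orb D a) ((orb D a).image h) := by
  rw [Finset.disjoint_left]
  intro c hc hc'
  obtain ⟨d, hd, rfl⟩ := mem_orb.mp hc
  obtain ⟨c', hc'', hcc⟩ := Finset.mem_image.mp hc'
  obtain ⟨d', hd', rfl⟩ := mem_orb.mp hc''
  apply hha
  have hconj : h * d' * h⁻¹ ∈ D := (Subgroup.mem_normalizer_iff.mp hh d').mp hd'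
  refine mem_orb.mpr ⟨(h * d' * h⁻¹)⁻¹ * d, D.mul_mem (D.inv_mem hconj) hd, ?_⟩
  rw [Equiv.Perm.mul_apply, ← hcc]
  simp [Equiv.Perm.mul_apply]

theorem odd_trick (D : Subgroup (Perm α)) (g : Perm α)
    (hg : g ∈ Subgroup.normalizer (D : Set (Perm α))) (m : ℕ)
    (hm : Odd m) (hgm : g ^ m = 1) (a : α) (h : ∃ d ∈ D, (g * g) a = d a) :
    ∃ d ∈ D, g a = d a := by
  obtain ⟨d, hd, hda⟩ := h
  have key : ∀ i : ℕ, ∃ e ∈ D, ((g * g) ^ i) a = e a := by
    intro i
    induction i with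
    | zero => exact ⟨1, D.one_mem, by simp⟩
    | succ i ih =>
      obtain ⟨e, he, hea⟩ := ih
      have hN : (g * g) ^ i ∈ Subgroup.normalizer (D : Set (Perm α)) :=
        (Subgroup.normalizer (D : Set (Perm α))).pow_mem
          ((Subgroup.normalizer (D : Set (Perm α))).mul_mem hg hg) i
      have hconj : (g * g) ^ i * d * ((g * g) ^ i)⁻¹ ∈ D :=
        (Subgroup.mem_normalizer_iff.mp hN d).mp hd
      refine ⟨(g * g) ^ i * d * ((g * g) ^ i)⁻¹ * e, D.mul_mem hconj he, ?_⟩
      rw [pow_succ, Equiv.Perm.mul_apply, hda]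
      simp only [Equiv.Perm.mul_apply]
      rw [← hea]
      simp
  obtain ⟨j, hj⟩ := hm
  obtain ⟨e, he, hea⟩ := key (j + 1)
  refine ⟨e, he, ?_⟩
  rw [← hea]
  have hpow : (g * g) ^ (j + 1) = g := by
    rw [← pow_two, ← pow_mul, show 2 * (j + 1) = m + 1 by omega, pow_succ, hgm, one_mul]
  rw [hpow]

theorem inv_maps (g : Perm α) (m : ℕ) (hm : Odd m) (hgm : g ^ m = 1) (O : Finset α)
    (hgO : ∀ a ∈ O, g a ∈ O) : ∀ c ∈ O, g⁻¹ c ∈ O := by
  have hpow : ∀ j : ℕ, ∀ c ∈ O, (g ^ j) c ∈ O := by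
    intro j
    induction j with
    | zero => intro c hc; simpa using hc
    | succ j ih => intro c hc; rw [pow_succ', Equiv.Perm.mul_apply]; exact hgO _ (ih c hc)
  have hm1 : 1 ≤ m := by obtain ⟨j, hj⟩ := hm; omega
  have hinv : g⁻¹ = g ^ (m - 1) := by
    apply inv_eq_of_mul_eq_one_right
    rw [← pow_succ', Nat.sub_add_cancel hm1, hgm]
  intro c hc
  rw [hinv]; exact hpow _ c hc

end Cfsg.Agent.Lib.Helper20.USylB
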