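import Cfsg.Agent.Lib.Helper20.USylA
import Cfsg.Agent.Lib.Helper20.USylB

set_option autoImplicit false

namespace Cfsg.Agent.Lib.Helper20.USylC

open Equiv Equiv.Perm Cfsg.Agent.Lib.Helper20.USylA Cfsg.Agent.Lib.Helper20.USylB

set_option linter.unusedSectionVars false

variable {α : Type*} [Fintype α] [DecidableEq α]

/-- the inductive statement -/
def IH (g : Perm α) (n : ℕ) : Prop :=
  ∀ (O : Finset α) (D : Subgroup (Perm α)) (x : Perm α), O.card ≤ n → IsPGroup 2 D → x ∈ D →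
    (∀ d ∈ D, ∀ a ∈ O, d a ∈ O) → g ∈ Subgroup.normalizer (D : Set (Perm α)) →
    (∀ a ∈ O, g a ∈ O) → condF x O → condN x O → ∀ a ∈ O, g a = a

theorem pow_two_pow_eq_one {D : Subgroup (Perm α)} (hD : IsPGroup 2 D) {x : Perm α} (hxD : x ∈ D) :
    ∃ k : ℕ, x ^ 2 ^ k = 1 := by
  obtain ⟨k, hk⟩ := hD ⟨x, hxD⟩
  refine ⟨k, ?_⟩
  have h1 := congrArg Subtype.val hk
  simpa using h1

theorem nt_lemma (g : Perm α) (m : ℕ) (hm : Odd m) (hgm : g ^ m = 1) (n : ℕ) (ih : IH g n)
    (O : Finset α) (D : Subgroup (Perm α)) (x : Perm α) (hcard : O.card ≤ n + 1)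
    (hD : IsPGroup 2 D) (hxD : x ∈ D) (hDO : ∀ d ∈ D, ∀ a ∈ O, d a ∈ O)
    (hgD : g ∈ Subgroup.normalizer (D : Set (Perm α))) (hgO : ∀ a ∈ O, g a ∈ O)
    (hF : condF x O) (hN : condN x O)
    (hnt : ∃ a0 ∈ O, ∃ c0 ∈ O, ∀ d ∈ D, d a0 ≠ c0) : ∀ a ∈ O, g a = a := by
  intro a ha
  obtain ⟨a0, ha0, c0, hc0, hnt⟩ := hnt
  have hsub : orb D a ⊆ O := by
    intro c hc
    obtain ⟨d, hd, rfl⟩ := mem_orb.mp hc
    exact hDO d hd a ha
  have hlt : (orb D a).card < O.card := by
    apply Finset.card_lt_card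
    rw [Finset.ssubset_iff_subset_ne]
    refine ⟨hsub, ?_⟩
    intro heq
    have h1 : a0 ∈ orb D a := heq ▸ ha0
    have h2 : c0 ∈ orb D a := heq ▸ hc0
    obtain ⟨d1, hd1, rfl⟩ := mem_orb.mp h1
    obtain ⟨d2, hd2, rfl⟩ := mem_orb.mp h2
    exact hnt (d2 * d1⁻¹) (D.mul_mem hd2 (D.inv_mem hd1)) (by simp [Equiv.Perm.mul_apply])
  have hga : g a ∈ orb D a := by
    by_contra hcon
    obtain ⟨t, ht⟩ := orb_card hD a
    obtain ⟨k, hxk⟩ := pow_two_pow_eq_one hD hxD
    have hinj : Function.Injective (⇑g) := g.injective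
    have hc2 : ((orb D a).image g).card = 2 ^ t := by
      rw [Finset.card_image_of_injective _ hinj, ht]
    have hc3 : (((orb D a).image g).image g).card = 2 ^ t := by
      rw [Finset.card_image_of_injective _ hinj, hc2]
    have hinv1 : ∀ d ∈ D, ∀ c ∈ orb D a, d c ∈ orb D a := orb_inv
    have hinv2 : ∀ d ∈ D, ∀ c ∈ (orb D a).image g, d c ∈ (orb D a).image g :=
      image_inv hgD _ hinv1
    have hinv3 : ∀ d ∈ D, ∀ c ∈ ((orb D a).image g).image g, d c ∈ ((orb D a).image g).image g :=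
      image_inv hgD _ hinv2
    have hp1 := period_lemma x k hxk _ (hinv1 x hxD) t ht
    have hp2 := period_lemma x k hxk _ (hinv2 x hxD) t hc2
    have hp3 := period_lemma x k hxk _ (hinv3 x hxD) t hc3
    have hd12 : Disjoint (orb D a) ((orb D a).image g) := orb_disj hgD a hcon
    have hd23 : Disjoint ((orb D a).image g) (((orb D a).image g).image g) :=
      (Finset.disjoint_image hinj).mpr hd12
    have hgg : (g * g) a ∉ orb D a := by
      intro h
      obtain ⟨d, hd, hda⟩ := mem_orb.mp h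
      obtain ⟨e, he, hea⟩ := odd_trick D g hgD m hm hgm a ⟨d, hd, hda.symm⟩
      exact hcon (mem_orb.mpr ⟨e, he, hea.symm⟩)
    have hd13 : Disjoint (orb D a) (((orb D a).image g).image g) := by
      have h1 := orb_disj ((Subgroup.normalizer (D : Set (Perm α))).mul_mem hgD hgD) a hgg
      have e : ((orb D a).image g).image g = (orb D a).image (⇑(g * g)) := by
        rw [Finset.image_image]; rfl
      rw [e]; exact h1
    have hUcard : (orb D a ∪ (orb D a).image g ∪ ((orb D a).image g).image g).card = 3 * 2 ^ t := by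
      rw [Finset.card_union_of_disjoint, Finset.card_union_of_disjoint hd12, ht, hc2, hc3]
      · ring
      · rw [Finset.disjoint_union_left]; exact ⟨hd13, hd23⟩
    have hs2 : (orb D a).image g ⊆ O := by
      intro c hc
      obtain ⟨c', hc', rfl⟩ := Finset.mem_image.mp hc
      exact hgO _ (hsub hc')
    have hs3 : ((orb D a).image g).image g ⊆ O := by
      intro c hc
      obtain ⟨c', hc', rfl⟩ := Finset.mem_image.mp hc
      exact hgO _ (hs2 hc')
    have hUO : orb D a ∪ (orb D a).image g ∪ ((orb D a).image g).image g ⊆ O :=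
      Finset.union_subset (Finset.union_subset hsub hs2) hs3
    have hUper : ∀ c ∈ orb D a ∪ (orb D a).image g ∪ ((orb D a).image g).image g,
        (x ^ 2 ^ t) c = c := by
      intro c hc
      rw [Finset.mem_union, Finset.mem_union] at hc
      rcases hc with (h | h) | h
      · exact hp1 c h
      · exact hp2 c h
      · exact hp3 c h
    have hb := size_bound hN t _ hUO hUper
    have hf := fix_le_two hF _ hUO
    have e : (2 : ℕ) ^ (t + 1) = 2 * 2 ^ t := by ring
    have hpos : 0 < 2 ^ t := by positivity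
    omega
  have hgorb : ∀ c ∈ orb D a, g c ∈ orb D a := by
    intro c hc
    obtain ⟨d, hd, rfl⟩ := mem_orb.mp hc
    obtain ⟨e, he, hea⟩ := mem_orb.mp hga
    have hconj : g * d * g⁻¹ ∈ D := (Subgroup.mem_normalizer_iff.mp hgD d).mp hd
    refine mem_orb.mpr ⟨g * d * g⁻¹ * e, D.mul_mem hconj he, ?_⟩
    simp [Equiv.Perm.mul_apply, hea]
  exact ih (orb D a) D x (by omega) hD hxD (fun d hd c hc => orb_inv d hd c hc) hgD hgorb
    (condF_mono hsub hF) (condN_mono hsub hN) a (self_mem_orb D a)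

/-- an "index 2 subgroup of `D` containing the stabilizer of `a`" -/
structure Good (D M : Subgroup (Perm α)) (a : α) : Prop where
  le : M ≤ D
  stab : ∀ d ∈ D, d a = a → d ∈ M
  ne : ∃ d ∈ D, d ∉ M
  iff : ∀ d ∈ D, ∀ d' ∈ D, (d * d' ∈ M ↔ (d ∈ M ↔ d' ∈ M))

theorem Good.normal {D M : Subgroup (Perm α)} {a : α} (hM : Good D M a) {d m : Perm α}
    (hd : d ∈ D) (hm : m ∈ M) : d * m * d⁻¹ ∈ M := by
  rw [hM.iff (d * m) (D.mul_mem hd (hM.le hm)) d⁻¹ (D.inv_mem hd),
    hM.iff d hd m (hM.le hm), inv_mem_iff]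
  simp [hm]

theorem Good.stab' {D M : Subgroup (Perm α)} {a : α} (hM : Good D M a) {O : Finset α}
    (htr : ∀ u ∈ O, ∃ d ∈ D, d a = u) {u : α} (hu : u ∈ O) {e : Perm α} (he : e ∈ D)
    (heu : e u = u) : e ∈ M := by
  obtain ⟨d, hd, rfl⟩ := htr u hu
  have h1 : d⁻¹ * e * d ∈ M := hM.stab _ (D.mul_mem (D.mul_mem (D.inv_mem hd) he) hd)
    (by simp [Equiv.Perm.mul_apply, heu])
  have h2 := hM.normal hd h1
  have e' : d * (d⁻¹ * e * d) * d⁻¹ = e := by group
  rwa [e'] at h2

theorem Good.pow_mem {D M : Subgroup (Perm α)} {a : α} (hM : Good D M a) {x : Perm α}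
    (hx : x ∈ D) (hxM : x ∉ M) : ∀ k : ℕ, x ^ k ∈ M ↔ Even k := by
  intro k
  induction k with
  | zero => simp
  | succ k ih =>
    rw [pow_succ, hM.iff _ (D.pow_mem hx k) x hx, ih, Nat.even_add_one]
    simp [hxM]

theorem Good.mem_iff {D M : Subgroup (Perm α)} {a : α} (hM : Good D M a) {x : Perm α}
    (hx : x ∈ D) (hxM : x ∉ M) {d : Perm α} (hd : d ∈ D) {k : ℕ} (hk : d a = (x ^ k) a) :
    d ∈ M ↔ Even k := by
  have he : (x ^ k)⁻¹ * d ∈ M := hM.stab _ (D.mul_mem (D.inv_mem (D.pow_mem hx k)) hd)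
    (by simp [Equiv.Perm.mul_apply, hk])
  have key : x ^ k * ((x ^ k)⁻¹ * d) ∈ M ↔ Even k := by
    rw [hM.iff _ (D.pow_mem hx k) _ (hM.le he), hM.pow_mem hx hxM k]
    simp [he]
  have hd' : x ^ k * ((x ^ k)⁻¹ * d) = d := by group
  rwa [hd'] at key

theorem Good.not_mem {D M : Subgroup (Perm α)} {a : α} (hM : Good D M a) {x : Perm α}
    (hx : x ∈ D) (htr : ∀ d ∈ D, ∃ k : ℕ, d a = (x ^ k) a) : x ∉ M := by
  intro hxM
  obtain ⟨d, hd, hdM⟩ := hM.ne
  obtain ⟨k, hk⟩ := htr d hd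
  have he : (x ^ k)⁻¹ * d ∈ M := hM.stab _ (D.mul_mem (D.inv_mem (D.pow_mem hx k)) hd)
    (by simp [Equiv.Perm.mul_apply, hk])
  have h1 : x ^ k * ((x ^ k)⁻¹ * d) ∈ M := M.mul_mem (M.pow_mem hxM k) he
  have hd' : x ^ k * ((x ^ k)⁻¹ * d) = d := by group
  rw [hd'] at h1
  exact hdM h1

theorem Good.unique {D M1 M2 : Subgroup (Perm α)} {a : α} (h1 : Good D M1 a) (h2 : Good D M2 a)
    {x : Perm α} (hx : x ∈ D) (htr : ∀ d ∈ D, ∃ k : ℕ, d a = (x ^ k) a) : M1 = M2 := by
  have hx1 := h1.not_mem hx htr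
  have hx2 := h2.not_mem hx htr
  ext y
  constructor
  · intro hy
    obtain ⟨k, hk⟩ := htr y (h1.le hy)
    exact (h2.mem_iff hx hx2 (h1.le hy) hk).mpr ((h1.mem_iff hx hx1 (h1.le hy) hk).mp hy)
  · intro hy
    obtain ⟨k, hk⟩ := htr y (h2.le hy)
    exact (h1.mem_iff hx hx1 (h2.le hy) hk).mpr ((h2.mem_iff hx hx2 (h2.le hy) hk).mp hy)

/-- the conjugate of a good subgroup is good -/
theorem Good.conj {D M : Subgroup (Perm α)} {a : α} (hM : Good D M a) {g : Perm α}
    (hg : g ∈ Subgroup.normalizer (D : Set (Perm α))) (hga : ∃ d1 ∈ D, g⁻¹ a = d1 a) :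
    ∃ M' : Subgroup (Perm α), Good D M' a ∧ ∀ y, y ∈ M' ↔ g⁻¹ * y * g ∈ M := by
  refine ⟨M.comap (MulAut.conj g⁻¹).toMonoidHom, ?_, ?_⟩
  swap
  · intro y; simp [Subgroup.mem_comap]
  have hmem : ∀ y, y ∈ M.comap (MulAut.conj g⁻¹).toMonoidHom ↔ g⁻¹ * y * g ∈ M := by
    intro y; simp [Subgroup.mem_comap]
  have hginv : g⁻¹ ∈ Subgroup.normalizer (D : Set (Perm α)) :=
    (Subgroup.normalizer (D : Set (Perm α))).inv_mem hg
  have hc : ∀ d ∈ D, g⁻¹ * d * g ∈ D := by
    intro d hd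
    have h1 := (Subgroup.mem_normalizer_iff.mp hginv d).mp hd
    simpa using h1
  have hc' : ∀ d ∈ D, g * d * g⁻¹ ∈ D := fun d hd => (Subgroup.mem_normalizer_iff.mp hg d).mp hd
  refine ⟨?_, ?_, ?_, ?_⟩
  · intro y hy
    rw [hmem] at hy
    have h1 := hc' _ (hM.le hy)
    have e : g * (g⁻¹ * y * g) * g⁻¹ = y := by group
    rwa [e] at h1
  · intro d hd hda
    rw [hmem]
    obtain ⟨d1, hd1, hd1a⟩ := hga
    have h1 : d1⁻¹ * (g⁻¹ * d * g) * d1 ∈ M := hM.stab _
      (D.mul_mem (D.mul_mem (D.inv_mem hd1) (hc d hd)) hd1)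
      (by
        calc (d1⁻¹ * (g⁻¹ * d * g) * d1) a = d1⁻¹ (g⁻¹ (d (g (d1 a)))) := rfl
          _ = d1⁻¹ (g⁻¹ (d (g (g⁻¹ a)))) := by rw [← hd1a]
          _ = d1⁻¹ (g⁻¹ (d a)) := by simp
          _ = d1⁻¹ (g⁻¹ a) := by rw [hda]
          _ = d1⁻¹ (d1 a) := by rw [hd1a]
          _ = a := by simp)
    have h2 := hM.normal hd1 h1
    have e : d1 * (d1⁻¹ * (g⁻¹ * d * g) * d1) * d1⁻¹ = g⁻¹ * d * g := by group
    rwa [e] at h2
  · obtain ⟨d0, hd0, hd0M⟩ := hM.ne
    refine ⟨g * d0 * g⁻¹, hc' d0 hd0, ?_⟩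
    rw [hmem]
    have e : g⁻¹ * (g * d0 * g⁻¹) * g = d0 := by group
    rw [e]; exact hd0M
  · intro d hd d' hd'
    rw [hmem, hmem, hmem]
    have e : g⁻¹ * (d * d') * g = (g⁻¹ * d * g) * (g⁻¹ * d' * g) := by group
    rw [e]
    exact hM.iff _ (hc d hd) _ (hc d' hd')

theorem core (g : Perm α) (m : ℕ) (hm : Odd m) (hgm : g ^ m = 1) : ∀ n : ℕ, IH g n := by
  intro n
  induction n with
  | zero =>
    intro O D x hcard _ _ _ _ _ _ _ a ha
    have h0 : O = ∅ := Finset.card_eq_zero.mp (by omega)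
    rw [h0] at ha; simp at ha
  | succ n ih =>
    intro O D x hcard hD hxD hDO hgD hgO hF hN
    by_cases hnt : ∃ a0 ∈ O, ∃ c0 ∈ O, ∀ d ∈ D, d a0 ≠ c0
    · exact nt_lemma g m hm hgm n ih O D x hcard hD hxD hDO hgD hgO hF hN hnt
    · have htr : ∀ u ∈ O, ∀ v ∈ O, ∃ d ∈ D, d u = v := by
        intro u hu v hv
        by_contra hcon
        exact hnt ⟨u, hu, v, hv, fun d hd h => hcon ⟨d, hd, h⟩⟩
      intro a ha
      have hginvO := inv_maps g m hm hgm O hgO
      by_cases hmove : ∃ d0 ∈ D, d0 a ≠ a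
      swap
      · obtain ⟨d, hd, hda⟩ := htr a ha (g a) (hgO a ha)
        rw [← hda]
        by_contra h
        exact hmove ⟨d, hd, h⟩
      obtain ⟨d0, hd0, hd0a⟩ := hmove
      obtain ⟨M, hMD, hHM, hMne, hMiff⟩ := exists_idx2 D
        (D ⊓ MulAction.stabilizer (Perm α) a) hD inf_le_left
        ⟨d0, hd0, fun h => hd0a (by have h2 := h.2; simpa using h2)⟩
      have hM : Good D M a :=
        ⟨hMD, fun d hd hda => hHM ⟨hd, by simpa using hda⟩, hMne, hMiff⟩
      have htra : ∀ u ∈ O, ∃ d ∈ D, d a = u := fun u hu => htr a ha u hu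
      obtain ⟨k, hxk⟩ := pow_two_pow_eq_one hD hxD
      by_cases hfix : ∃ p ∈ O, x p = p
      · -- the point stabilizers generate a non-transitive normal subgroup containing x
        obtain ⟨p, hp, hxp⟩ := hfix
        have hKM : Subgroup.closure {d | d ∈ D ∧ ∃ b ∈ O, d b = b} ≤ M := by
          rw [Subgroup.closure_le]
          rintro d ⟨hd, b, hb, hdb⟩
          exact hM.stab' htra hb hd hdb
        have hKD : Subgroup.closure {d | d ∈ D ∧ ∃ b ∈ O, d b = b} ≤ D := hKM.trans hMD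
        have hxK : x ∈ Subgroup.closure {d | d ∈ D ∧ ∃ b ∈ O, d b = b} :=
          Subgroup.subset_closure ⟨hxD, p, hp, hxp⟩
        have hgK : g ∈ Subgroup.normalizer
            ((Subgroup.closure {d | d ∈ D ∧ ∃ b ∈ O, d b = b} : Subgroup (Perm α)) : Set (Perm α)) := by
          apply mem_normalizer_of_conj
          · apply conj_closure
            rintro d ⟨hd, b, hb, hdb⟩
            refine Subgroup.subset_closure
              ⟨(Subgroup.mem_normalizer_iff.mp hgD d).mp hd, g b, hgO b hb, ?_⟩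
            simp [Equiv.Perm.mul_apply, hdb]
          · have h1 := conj_closure {d | d ∈ D ∧ ∃ b ∈ O, d b = b} g⁻¹ (by
              rintro d ⟨hd, b, hb, hdb⟩
              refine Subgroup.subset_closure
                ⟨(Subgroup.mem_normalizer_iff.mp
                  ((Subgroup.normalizer (D : Set (Perm α))).inv_mem hgD) d).mp hd,
                  g⁻¹ b, hginvO b hb, ?_⟩
              simp [Equiv.Perm.mul_apply, hdb])
            intro y hy
            simpa using h1 y hy
        have hntK : ∃ a0 ∈ O, ∃ c0 ∈ O,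
            ∀ d ∈ Subgroup.closure {d | d ∈ D ∧ ∃ b ∈ O, d b = b}, d a0 ≠ c0 := by
          obtain ⟨d1, hd1, hd1M⟩ := hM.ne
          refine ⟨a, ha, d1 a, hDO d1 hd1 a ha, ?_⟩
          intro d hd hda
          have h1 : d1⁻¹ * d ∈ M := hM.stab _ (D.mul_mem (D.inv_mem hd1) (hKD hd))
            (by simp [Equiv.Perm.mul_apply, hda])
          have h2 : d * (d1⁻¹ * d)⁻¹ ∈ M := M.mul_mem (hKM hd) (M.inv_mem h1)
          have e : d * (d1⁻¹ * d)⁻¹ = d1 := by group
          rw [e] at h2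
          exact hd1M h2
        exact nt_lemma g m hm hgm n ih O _ x hcard (hD.to_le hKD) hxK
          (fun d hd => hDO d (hKD hd)) hgK hgO hF hN hntK a ha
      · -- x has no fixed point: x is transitive on O
        have hnofix : ∀ p ∈ O, x p ≠ p := fun p hp h => hfix ⟨p, hp, h⟩
        have hOorb : O = orb D a := by
          ext c
          rw [mem_orb]
          constructor
          · intro hc; exact htra c hc
          · rintro ⟨d, hd, rfl⟩; exact hDO d hd a ha
        obtain ⟨b, hb⟩ := orb_card hD a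
        rw [← hOorb] at hb
        have hxtr := typeI x k hxk O (hDO x hxD) b hb hN hnofix
        have htrx : ∀ d ∈ D, ∃ k : ℕ, d a = (x ^ k) a := by
          intro d hd
          obtain ⟨i, hi⟩ := hxtr a ha (d a) (hDO d hd a ha)
          exact ⟨i, hi.symm⟩
        have hxM : x ∉ M := hM.not_mem hxD htrx
        obtain ⟨M', hM', hM'mem⟩ := hM.conj hgD (by
          obtain ⟨d1, hd1, h⟩ := htra (g⁻¹ a) (hginvO a ha)
          exact ⟨d1, hd1, h.symm⟩)
        have hMeq : M' = M := Good.unique hM' hM hxD htrx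
        have hmem : ∀ y, y ∈ M ↔ g⁻¹ * y * g ∈ M := by
          intro y
          rw [← hM'mem y, hMeq]
        have hgM : g ∈ Subgroup.normalizer (M : Set (Perm α)) := by
          apply mem_normalizer_of_conj
          · intro y hy
            rw [hmem]
            have e : g⁻¹ * (g * y * g⁻¹) * g = y := by group
            rw [e]; exact hy
          · intro y hy
            exact (hmem y).mp hy
        have hAO : orb M a ⊆ O := by
          intro c hc
          obtain ⟨d, hd, rfl⟩ := mem_orb.mp hc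
          exact hDO d (hMD hd) a ha
        have hxa : x a ∉ orb M a := by
          intro h
          obtain ⟨d, hd, hda⟩ := mem_orb.mp h
          have h1 : d⁻¹ * x ∈ M := hM.stab _ (D.mul_mem (D.inv_mem (hMD hd)) hxD)
            (by simp [Equiv.Perm.mul_apply, ← hda])
          have h2 : d * (d⁻¹ * x) ∈ M := M.mul_mem hd h1
          have e : d * (d⁻¹ * x) = x := by group
          rw [e] at h2
          exact hxM h2
        have hAlt : (orb M a).card < O.card := by
          apply Finset.card_lt_card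
          rw [Finset.ssubset_iff_subset_ne]
          refine ⟨hAO, ?_⟩
          intro heq
          exact hxa (heq ▸ hDO x hxD a ha)
        have hxx : x * x ∈ M := by rw [hM.iff x hxD x hxD]
        have hga : g a ∈ orb M a := by
          by_contra hcon
          obtain ⟨d, hd, hda⟩ := htr a ha (g a) (hgO a ha)
          have hdM : d ∉ M := fun h => hcon (mem_orb.mpr ⟨d, h, hda⟩)
          have hconjD : g * d * g⁻¹ ∈ D := (Subgroup.mem_normalizer_iff.mp hgD d).mp hd
          have hconjM : g * d * g⁻¹ ∉ M := by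
            intro h
            exact hdM ((Subgroup.mem_normalizer_iff.mp hgM d).mpr h)
          have hprod : g * d * g⁻¹ * d ∈ M := by
            rw [hM.iff _ hconjD d hd]
            simp [hconjM, hdM]
          obtain ⟨e, he, hea⟩ := odd_trick M g hgM m hm hgm a ⟨g * d * g⁻¹ * d, hprod, by
            simp [Equiv.Perm.mul_apply, hda]⟩
          exact hcon (mem_orb.mpr ⟨e, he, hea.symm⟩)
        have hgA : ∀ c ∈ orb M a, g c ∈ orb M a := by
          intro c hc
          obtain ⟨d, hd, rfl⟩ := mem_orb.mp hc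
          obtain ⟨e, he, hea⟩ := mem_orb.mp hga
          have hconj : g * d * g⁻¹ ∈ M := (Subgroup.mem_normalizer_iff.mp hgM d).mp hd
          refine mem_orb.mpr ⟨g * d * g⁻¹ * e, M.mul_mem hconj he, ?_⟩
          simp [Equiv.Perm.mul_apply, hea]
        have htrans2 : ∀ v ∈ orb M a, ∀ w ∈ orb M a, ∃ i : ℕ, ((x * x) ^ i) v = w := by
          intro v hv w hw
          obtain ⟨m1, hm1, hm1a⟩ := mem_orb.mp hv
          obtain ⟨m2, hm2, hm2a⟩ := mem_orb.mp hw
          obtain ⟨j, hj⟩ := hxtr v (hAO hv) w (hAO hw)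
          have he : m2⁻¹ * x ^ j * m1 ∈ M := hM.stab _
            (D.mul_mem (D.mul_mem (D.inv_mem (hMD hm2)) (D.pow_mem hxD j)) (hMD hm1))
            (by simp [Equiv.Perm.mul_apply, hm1a, hj, ← hm2a])
          have hxj : x ^ j ∈ M := by
            have h1 := M.mul_mem (M.mul_mem hm2 he) (M.inv_mem hm1)
            have e : m2 * (m2⁻¹ * x ^ j * m1) * m1⁻¹ = x ^ j := by group
            rwa [e] at h1
          obtain ⟨i, hi⟩ := (hM.pow_mem hxD hxM j).mp hxj
          refine ⟨i, ?_⟩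
          rw [← pow_two, ← pow_mul, show 2 * i = j by omega]
          exact hj
        have hF' : condF (x * x) (orb M a) := by
          intro p hp q hq r _ hxp _ _
          left
          obtain ⟨i, hi⟩ := htrans2 p hp q hq
          rw [← hi, Equiv.Perm.pow_apply_eq_self_of_apply_eq_self hxp]
        have hN' : condN (x * x) (orb M a) := fun u hu v hv _ _ _ _ _ => htrans2 u hu v hv
        exact ih (orb M a) M (x * x) (by omega) (hD.to_le hMD) hxx
          (fun d hd c hc => orb_inv d hd c hc) hgM hgA hF' hN' a (self_mem_orb M a)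

/-- the normalizer of a 2-group containing a "good" 2-element is a 2-group -/
theorem normalizer_isPGroup (x : Perm α) (hF : condF x Finset.univ) (hN : condN x Finset.univ)
    (D : Subgroup (Perm α)) (hD : IsPGroup 2 D) (hxD : x ∈ D) :
    IsPGroup 2 (Subgroup.normalizer (D : Set (Perm α))) := by
  rintro ⟨h, hh⟩
  obtain ⟨k, mm, hodd, hord⟩ := Nat.exists_eq_two_pow_mul_odd (orderOf_pos h).ne'
  refine ⟨k, ?_⟩
  have hg : h ^ 2 ^ k ∈ Subgroup.normalizer (D : Set (Perm α)) :=
    (Subgroup.normalizer (D : Set (Perm α))).pow_mem hh _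
  have hgm : (h ^ 2 ^ k) ^ mm = 1 := by rw [← pow_mul, ← hord, pow_orderOf_eq_one]
  have h1 := core (h ^ 2 ^ k) mm hodd hgm (Fintype.card α) Finset.univ D x (by simp) hD hxD
    (fun _ _ _ _ => Finset.mem_univ _) hg (fun _ _ => Finset.mem_univ _) hF hN
  apply Subtype.ext
  simp only [Subgroup.coe_pow, Subgroup.coe_one]
  ext a
  simpa using h1 a (Finset.mem_univ a)

theorem sylow_unique (x : Perm α) (hF : condF x Finset.univ) (hN : condN x Finset.univ)
    (P Q : Sylow 2 (Perm α)) (hP : x ∈ P) (hQ : x ∈ Q) : P = Q := by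
  have : Fact (Nat.Prime 2) := ⟨Nat.prime_two⟩
  exact sylow_unique_of_normalizers x
    (fun D hD hxD => normalizer_isPGroup x hF hN D hD hxD) _ P Q hP hQ le_rfl

end Cfsg.Agent.Lib.Helper20.USylC
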