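import Cfsg.Agent.Lib.Helper20.USylC

set_option autoImplicit false

namespace Cfsg.Agent.Lib.Helper20.USylD

open Equiv Equiv.Perm Cfsg.Agent.Lib.Helper20.USylA Cfsg.Agent.Lib.Helper20.USylB
  Cfsg.Agent.Lib.Helper20.USylC

set_option linter.unusedSectionVars false

variable {α : Type*} [Fintype α] [DecidableEq α]

/-- `x` together with a transposition joining two `x`-cycles of the same length generates a
2-group -/
theorem two_group_swap (x : Perm α) (k : ℕ) (hxk : x ^ 2 ^ k = 1) (a b : α)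
    (hper : ∀ i : ℕ, (x ^ i) a = a ↔ (x ^ i) b = b)
    (hdiff : ∀ i : ℕ, (x ^ i) a ≠ b ∧ (x ^ i) b ≠ a) :
    IsPGroup 2 (Subgroup.closure ({x, swap a b} : Set (Perm α))) := by
  have hconj : ∀ j i : ℕ, x ^ j * swap ((x ^ i) a) ((x ^ i) b) * (x ^ j)⁻¹ =
      swap ((x ^ (j + i)) a) ((x ^ (j + i)) b) := by
    intro j i
    rw [← Equiv.swap_apply_apply, pow_add, Equiv.Perm.mul_apply, Equiv.Perm.mul_apply]
  have hab : a ≠ b := by
    have h1 := (hdiff 0).1
    simpa using h1
  have hcomm0 : ∀ i : ℕ, Commute (swap a b) (swap ((x ^ i) a) ((x ^ i) b)) := by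
    intro i
    by_cases h : (x ^ i) a = a
    · rw [h, (hper i).mp h]
    · have h' : (x ^ i) b ≠ b := fun hb => h ((hper i).mpr hb)
      have hd : Equiv.Perm.Disjoint (swap a b) (swap ((x ^ i) a) ((x ^ i) b)) := by
        apply Equiv.Perm.disjoint_swap_swap
        have h1 := (hdiff i).1
        have h2 := (hdiff i).2
        have h3 : (x ^ i) a ≠ (x ^ i) b := (x ^ i).injective.ne hab
        simp only [List.nodup_cons, List.mem_cons, List.not_mem_nil, or_false, not_or,
          not_false_eq_true, List.nodup_nil, and_true]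
        exact ⟨⟨hab, Ne.symm h, Ne.symm h2⟩, ⟨Ne.symm h1, Ne.symm h'⟩, h3⟩
      exact hd.commute
  have hcomm : ∀ i j : ℕ,
      Commute (swap ((x ^ i) a) ((x ^ i) b)) (swap ((x ^ (i + j)) a) ((x ^ (i + j)) b)) := by
    intro i j
    have h1 := hconj i 0
    have h2 := hconj i j
    simp only [pow_zero, Equiv.Perm.one_apply, add_zero] at h1
    rw [← h1, ← h2]
    exact (Commute.conj_iff (x ^ i)).mpr (hcomm0 j)
  have hcommS : ∀ s ∈ {s : Perm α | ∃ i : ℕ, s = swap ((x ^ i) a) ((x ^ i) b)},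
      ∀ s' ∈ {s : Perm α | ∃ i : ℕ, s = swap ((x ^ i) a) ((x ^ i) b)}, Commute s s' := by
    rintro s ⟨i, rfl⟩ s' ⟨j, rfl⟩
    rcases le_total i j with hij | hij
    · obtain ⟨d, rfl⟩ := Nat.exists_eq_add_of_le hij
      exact hcomm i d
    · obtain ⟨d, rfl⟩ := Nat.exists_eq_add_of_le hij
      exact (hcomm j d).symm
  have hEcomm : ∀ y ∈ Subgroup.closure {s : Perm α | ∃ i : ℕ, s = swap ((x ^ i) a) ((x ^ i) b)},
      ∀ s ∈ {s : Perm α | ∃ i : ℕ, s = swap ((x ^ i) a) ((x ^ i) b)}, Commute s y := by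
    intro y hy s hs
    induction hy using Subgroup.closure_induction with
    | mem z hz => exact hcommS s hs z hz
    | one => exact Commute.one_right s
    | mul z w _ _ hz hw => exact hz.mul_right hw
    | inv z _ hz => exact hz.inv_right
  have hEab : ∀ y ∈ Subgroup.closure {s : Perm α | ∃ i : ℕ, s = swap ((x ^ i) a) ((x ^ i) b)},
      ∀ z ∈ Subgroup.closure {s : Perm α | ∃ i : ℕ, s = swap ((x ^ i) a) ((x ^ i) b)},
      Commute z y := by
    intro y hy z hz
    induction hz using Subgroup.closure_induction with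
    | mem s hs => exact hEcomm y hy s hs
    | one => exact Commute.one_left y
    | mul u v _ _ hu hv => exact hu.mul_left hv
    | inv u _ hu => exact hu.inv_left
  have hEsq : ∀ y ∈ Subgroup.closure {s : Perm α | ∃ i : ℕ, s = swap ((x ^ i) a) ((x ^ i) b)},
      y * y = 1 := by
    intro y hy
    induction hy using Subgroup.closure_induction with
    | mem z hz =>
      obtain ⟨i, rfl⟩ := hz
      exact Equiv.swap_mul_self _ _
    | one => simp
    | mul z w hz hw hzz hww =>
      calc z * w * (z * w) = z * (w * z) * w := by group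
        _ = z * (z * w) * w := by rw [(hEab z hz w hw).eq]
        _ = (z * z) * (w * w) := by group
        _ = 1 := by rw [hzz, hww, one_mul]
    | inv z _ hz => rw [← mul_inv_rev, hz, inv_one]
  have hE2 : IsPGroup 2
      (Subgroup.closure {s : Perm α | ∃ i : ℕ, s = swap ((x ^ i) a) ((x ^ i) b)}) := by
    rintro ⟨y, hy⟩
    refine ⟨1, Subtype.ext ?_⟩
    simp only [Subgroup.coe_pow, Subgroup.coe_one, pow_one, pow_two]
    exact hEsq y hy
  have hconjE : ∀ (j : ℕ),
      ∀ y ∈ Subgroup.closure {s : Perm α | ∃ i : ℕ, s = swap ((x ^ i) a) ((x ^ i) b)},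
      x ^ j * y * (x ^ j)⁻¹ ∈
        Subgroup.closure {s : Perm α | ∃ i : ℕ, s = swap ((x ^ i) a) ((x ^ i) b)} := by
    intro j
    apply conj_closure
    rintro s ⟨i, rfl⟩
    rw [hconj j i]
    exact Subgroup.subset_closure ⟨j + i, rfl⟩
  have hinv : x ^ (2 ^ k - 1) = x⁻¹ := by
    apply eq_inv_of_mul_eq_one_left
    rw [← pow_succ, Nat.sub_add_cancel Nat.one_le_two_pow, hxk]
  have hxN : x ∈ Subgroup.normalizer
      ((Subgroup.closure {s : Perm α | ∃ i : ℕ, s = swap ((x ^ i) a) ((x ^ i) b)} :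
        Subgroup (Perm α)) : Set (Perm α)) := by
    apply mem_normalizer_of_conj
    · intro y hy
      have h1 := hconjE 1 y hy
      simpa using h1
    · intro y hy
      have h1 := hconjE (2 ^ k - 1) y hy
      rwa [hinv, inv_inv] at h1
  have hZ : IsPGroup 2 (Subgroup.zpowers x) := by
    rintro ⟨y, hy⟩
    obtain ⟨j, rfl⟩ := Subgroup.mem_zpowers_iff.mp hy
    refine ⟨k, Subtype.ext ?_⟩
    simp only [Subgroup.coe_pow, Subgroup.coe_one]
    rw [← zpow_natCast, ← zpow_mul, mul_comm, zpow_mul, zpow_natCast, hxk, one_zpow]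
  have hsup := IsPGroup.to_sup_of_normal_right' hZ hE2 (Subgroup.zpowers_le.mpr hxN)
  apply hsup.to_le
  rw [Subgroup.closure_le]
  intro y hy
  rcases hy with rfl | rfl
  · exact (le_sup_left : Subgroup.zpowers y ≤ _) (Subgroup.mem_zpowers y)
  · exact (le_sup_right : _ ≤ Subgroup.zpowers x ⊔ _)
      (Subgroup.subset_closure ⟨0, by simp⟩)

theorem zpowers_isPGroup (x : Perm α) (k : ℕ) (hxk : x ^ 2 ^ k = 1) :
    IsPGroup 2 (Subgroup.zpowers x) := by
  rintro ⟨y, hy⟩
  obtain ⟨j, rfl⟩ := Subgroup.mem_zpowers_iff.mp hy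
  refine ⟨k, Subtype.ext ?_⟩
  simp only [Subgroup.coe_pow, Subgroup.coe_one]
  rw [← zpow_natCast, ← zpow_mul, mul_comm, zpow_mul, zpow_natCast, hxk, one_zpow]

/-- a triple `a, b, c` with `a ~ b` and `a ~ c` of equal period in different cycles contradicts
uniqueness of the Sylow 2-subgroup containing `x` -/
theorem not_unique_of_triple (x : Perm α) (k : ℕ) (hxk : x ^ 2 ^ k = 1) (a b c : α) (hbc : b ≠ c)
    (hper1 : ∀ i : ℕ, (x ^ i) a = a ↔ (x ^ i) b = b)
    (hdiff1 : ∀ i : ℕ, (x ^ i) a ≠ b ∧ (x ^ i) b ≠ a)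
    (hper2 : ∀ i : ℕ, (x ^ i) a = a ↔ (x ^ i) c = c)
    (hdiff2 : ∀ i : ℕ, (x ^ i) a ≠ c ∧ (x ^ i) c ≠ a)
    (P : Sylow 2 (Perm α)) (hP : ∀ Q : Sylow 2 (Perm α), x ∈ Q → Q = P) : False := by
  have : Fact (Nat.Prime 2) := ⟨Nat.prime_two⟩
  have hab : a ≠ b := by
    have h1 := (hdiff1 0).1
    simpa using h1
  have hac : a ≠ c := by
    have h1 := (hdiff2 0).1
    simpa using h1
  have h1 : swap a b ∈ P := by
    obtain ⟨Q, hQ⟩ := (two_group_swap x k hxk a b hper1 hdiff1).exists_le_sylow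
    have hxQ : x ∈ Q := hQ (Subgroup.subset_closure (by simp))
    rw [← hP Q hxQ]
    exact hQ (Subgroup.subset_closure (by simp))
  have h2 : swap a c ∈ P := by
    obtain ⟨Q, hQ⟩ := (two_group_swap x k hxk a c hper2 hdiff2).exists_le_sylow
    have hxQ : x ∈ Q := hQ (Subgroup.subset_closure (by simp))
    rw [← hP Q hxQ]
    exact hQ (Subgroup.subset_closure (by simp))
  have h3 : swap a b * swap a c ∈ (P : Subgroup (Perm α)) := (P : Subgroup (Perm α)).mul_mem h1 h2
  have hcyc := Equiv.Perm.isThreeCycle_swap_mul_swap_same hab hac hbc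
  have hord := hcyc.orderOf
  obtain ⟨n, hn⟩ := P.isPGroup' ⟨_, h3⟩
  have hn' : (swap a b * swap a c) ^ 2 ^ n = 1 := by
    have h4 := congrArg Subtype.val hn
    simpa using h4
  have hdvd := orderOf_dvd_of_pow_eq_one hn'
  rw [hord] at hdvd
  have h5 : 3 ∣ 2 := Nat.Prime.dvd_of_dvd_pow Nat.prime_three hdvd
  omega

theorem condF_of_card (x : Perm α) (h : Fintype.card α ≤ x.support.card + 2) :
    condF x Finset.univ := by
  intro p _ q _ r _ hp hq hr
  by_contra hcon
  have hpq : p ≠ q := fun h' => hcon (Or.inl h')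
  have hpr : p ≠ r := fun h' => hcon (Or.inr (Or.inl h'))
  have hqr : q ≠ r := fun h' => hcon (Or.inr (Or.inr h'))
  have hsub : ({p, q, r} : Finset α) ⊆ x.supportᶜ := by
    intro y hy
    simp only [Finset.mem_insert, Finset.mem_singleton] at hy
    rw [Finset.mem_compl, Equiv.Perm.notMem_support]
    rcases hy with rfl | rfl | rfl <;> assumption
  have hc3 : ({p, q, r} : Finset α).card = 3 := Finset.card_eq_three.mpr ⟨p, q, r, hpq, hpr, hqr, rfl⟩
  have h1 := Finset.card_le_card hsub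
  rw [hc3, Finset.card_compl] at h1
  omega

theorem exact_period_card (x : Perm α) (a : α) (j : ℕ) (h1 : (x ^ 2 ^ (j + 1)) a = a)
    (h2 : (x ^ 2 ^ j) a ≠ a) :
    a ∈ x.support ∧ (x.cycleOf a).support.card = 2 ^ (j + 1) := by
  have ha : x a ≠ a := by
    intro h
    exact h2 (Equiv.Perm.pow_apply_eq_self_of_apply_eq_self h _)
  have hsup : a ∈ x.support := Equiv.Perm.mem_support.mpr ha
  have hcyc : (x.cycleOf a).IsCycle := Equiv.Perm.isCycle_cycleOf x ha
  have hca : (x.cycleOf a) a ≠ a := by rw [Equiv.Perm.cycleOf_apply_self]; exact ha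
  have : Fact (Nat.Prime 2) := ⟨Nat.prime_two⟩
  have hord : orderOf (x.cycleOf a) = 2 ^ (j + 1) := by
    apply orderOf_eq_prime_pow
    · rw [hcyc.pow_eq_one_iff' hca, Equiv.Perm.cycleOf_pow_apply_self]; exact h2
    · rw [hcyc.pow_eq_one_iff' hca, Equiv.Perm.cycleOf_pow_apply_self]; exact h1
  exact ⟨hsup, by rw [← hcyc.orderOf, hord]⟩

theorem condN_of_nodup (x : Perm α) (h : x.cycleType.Nodup) : condN x Finset.univ := by
  intro a _ c _ j ha1 ha2 hc1 hc2
  obtain ⟨hsa, hcarda⟩ := exact_period_card x a j ha1 ha2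
  obtain ⟨hsc, hcardc⟩ := exact_period_card x c j hc1 hc2
  rw [Equiv.Perm.cycleType_def] at h
  have hinj := Multiset.inj_on_of_nodup_map h
  have hma : x.cycleOf a ∈ x.cycleFactorsFinset.1 :=
    Equiv.Perm.cycleOf_mem_cycleFactorsFinset_iff.mpr hsa
  have hmc : x.cycleOf c ∈ x.cycleFactorsFinset.1 :=
    Equiv.Perm.cycleOf_mem_cycleFactorsFinset_iff.mpr hsc
  have heq : x.cycleOf a = x.cycleOf c := hinj _ hma _ hmc (by simp [hcarda, hcardc])
  have hmem : c ∈ (x.cycleOf a).support := by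
    rw [heq, Equiv.Perm.mem_support_cycleOf_iff]
    exact ⟨Equiv.Perm.SameCycle.refl _ _, hsc⟩
  rw [Equiv.Perm.mem_support_cycleOf_iff] at hmem
  exact hmem.1.exists_nat_pow_eq

theorem pow_fix_iff (x : Perm α) (a : α) (ha : a ∈ x.support) (i : ℕ) :
    (x ^ i) a = a ↔ (x.cycleOf a).support.card ∣ i := by
  have hxa : x a ≠ a := Equiv.Perm.mem_support.mp ha
  have hcyc : (x.cycleOf a).IsCycle := Equiv.Perm.isCycle_cycleOf x hxa
  have hca : (x.cycleOf a) a ≠ a := by rw [Equiv.Perm.cycleOf_apply_self]; exact hxa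
  rw [← hcyc.orderOf, orderOf_dvd_iff_pow_eq_one, hcyc.pow_eq_one_iff' hca,
    Equiv.Perm.cycleOf_pow_apply_self]

theorem exists_two_cycles (x : Perm α) (h : ¬ x.cycleType.Nodup) :
    ∃ a b : α, a ∈ x.support ∧ b ∈ x.support ∧ ¬ x.SameCycle a b ∧
      (x.cycleOf a).support.card = (x.cycleOf b).support.card := by
  rw [Equiv.Perm.cycleType_def] at h
  have h' : ¬ ∀ c1 ∈ x.cycleFactorsFinset.1, ∀ c2 ∈ x.cycleFactorsFinset.1,
      (Finset.card ∘ Equiv.Perm.support) c1 = (Finset.card ∘ Equiv.Perm.support) c2 → c1 = c2 :=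
    fun hh => h (Multiset.Nodup.map_on hh x.cycleFactorsFinset.nodup)
  simp only [not_forall] at h'
  obtain ⟨c1, hc1, c2, hc2, heq, hne⟩ := h'
  have hc1' : c1 ∈ x.cycleFactorsFinset := hc1
  have hc2' : c2 ∈ x.cycleFactorsFinset := hc2
  have hcyc1 := (Equiv.Perm.mem_cycleFactorsFinset_iff.mp hc1').1
  have hcyc2 := (Equiv.Perm.mem_cycleFactorsFinset_iff.mp hc2').1
  obtain ⟨a, ha⟩ := hcyc1.nonempty_support
  obtain ⟨b, hb⟩ := hcyc2.nonempty_support
  have e1 := Equiv.Perm.cycle_is_cycleOf ha hc1'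
  have e2 := Equiv.Perm.cycle_is_cycleOf hb hc2'
  refine ⟨a, b, Equiv.Perm.mem_cycleFactorsFinset_support_le hc1' ha,
    Equiv.Perm.mem_cycleFactorsFinset_support_le hc2' hb, ?_, ?_⟩
  · intro hs
    apply hne
    rw [e1, e2, hs.cycleOf_eq]
  · rw [← e1, ← e2]; exact heq

/-- A 2-element of a finite symmetric group lies in a unique Sylow 2-subgroup iff it has at most
two fixed points and its nontrivial cycles have pairwise different lengths. -/
theorem main (x : Perm α) (hx : ∃ k : ℕ, orderOf x = 2 ^ k) :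
    (∃! P : Sylow 2 (Perm α), x ∈ P) ↔
      (Fintype.card α ≤ x.support.card + 2 ∧ x.cycleType.Nodup) := by
  have : Fact (Nat.Prime 2) := ⟨Nat.prime_two⟩
  obtain ⟨k, hk⟩ := hx
  have hxk : x ^ 2 ^ k = 1 := by rw [← hk]; exact pow_orderOf_eq_one x
  constructor
  · rintro ⟨P, hxP, huniq⟩
    refine ⟨?_, ?_⟩
    · by_contra hcon
      have h3 : 2 < (x.supportᶜ).card := by
        rw [Finset.card_compl]
        have := x.support.card_le_univ
        omega
      obtain ⟨a, b, c, ha, hb, hc, hab, hac, hbc⟩ := Finset.two_lt_card_iff.mp h3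
      rw [Finset.mem_compl, Equiv.Perm.notMem_support] at ha hb hc
      have fa : ∀ i : ℕ, (x ^ i) a = a := Equiv.Perm.pow_apply_eq_self_of_apply_eq_self ha
      have fb : ∀ i : ℕ, (x ^ i) b = b := Equiv.Perm.pow_apply_eq_self_of_apply_eq_self hb
      have fc : ∀ i : ℕ, (x ^ i) c = c := Equiv.Perm.pow_apply_eq_self_of_apply_eq_self hc
      exact not_unique_of_triple x k hxk a b c hbc
        (fun i => by rw [fa i, fb i]; simp)
        (fun i => by rw [fa i, fb i]; exact ⟨hab, Ne.symm hab⟩)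
        (fun i => by rw [fa i, fc i]; simp)
        (fun i => by rw [fa i, fc i]; exact ⟨hac, Ne.symm hac⟩)
        P huniq
    · by_contra hcon
      obtain ⟨a, b, ha, hb, hns, hcard⟩ := exists_two_cycles x hcon
      have hxb : x b ≠ b := Equiv.Perm.mem_support.mp hb
      have hper1 : ∀ i : ℕ, (x ^ i) a = a ↔ (x ^ i) b = b := by
        intro i
        rw [pow_fix_iff x a ha, pow_fix_iff x b hb, hcard]
      have hdiff1 : ∀ i : ℕ, (x ^ i) a ≠ b ∧ (x ^ i) b ≠ a := by
        intro i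
        constructor
        · intro h
          exact hns ⟨(i : ℤ), by simpa using h⟩
        · intro h
          exact hns (Equiv.Perm.SameCycle.symm ⟨(i : ℤ), by simpa using h⟩)
      have hcomm : ∀ i : ℕ, (x ^ i) (x b) = x ((x ^ i) b) := by
        intro i
        rw [← Equiv.Perm.mul_apply, ← Equiv.Perm.mul_apply, ← pow_succ, ← pow_succ']
      have hper2 : ∀ i : ℕ, (x ^ i) a = a ↔ (x ^ i) (x b) = x b := by
        intro i
        rw [hper1 i, hcomm i, x.injective.eq_iff]
      have hdiff2 : ∀ i : ℕ, (x ^ i) a ≠ x b ∧ (x ^ i) (x b) ≠ a := by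
        intro i
        constructor
        · intro h
          apply hns
          have h1 : x.SameCycle a (x b) := ⟨(i : ℤ), by simpa using h⟩
          exact Equiv.Perm.sameCycle_apply_right.mp h1
        · intro h
          apply hns
          have h1 : x.SameCycle b a := ⟨((i + 1 : ℕ) : ℤ), by
            rw [zpow_natCast, pow_succ, Equiv.Perm.mul_apply]; exact h⟩
          exact h1.symm
      exact not_unique_of_triple x k hxk a b (x b) (Ne.symm hxb) hper1 hdiff1 hper2 hdiff2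
        P huniq
  · rintro ⟨h1, h2⟩
    have hF := condF_of_card x h1
    have hN := condN_of_nodup x h2
    obtain ⟨P, hP⟩ := (zpowers_isPGroup x k hxk).exists_le_sylow
    have hxP : x ∈ P := hP (Subgroup.mem_zpowers x)
    exact ⟨P, hxP, fun Q hxQ => sylow_unique x hF hN Q P hxQ hxP⟩

end Cfsg.Agent.Lib.Helper20.USylD
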