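import Mathlib
import Cfsg.Agent.Lib.Helper4.UniStmt

/-!
# S4395 piece MATCHF: two finite fields of the same order with elements of order `q` can be
matched
-/

set_option autoImplicit false

namespace Cfsg.Agent.Lib.Helper20.UniMATCHF

open Cfsg.Agent.Lib.Helper4.UniStmt

theorem main : MATCHF := by
  intro q hq F₁ F₂ _ _ _ _ lam₁ lam₂ hcard h1 h1q h2 h2q
  haveI : Fintype F₁ := Fintype.ofFinite F₁
  haveI : Fintype F₂ := Fintype.ofFinite F₂
  have hc : Fintype.card F₁ = Fintype.card F₂ := by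
    rw [← Nat.card_eq_fintype_card, ← Nat.card_eq_fintype_card]
    exact hcard
  obtain ⟨θ, -⟩ : ∃ θ : F₁ ≃+* F₂, True := ⟨FiniteField.ringEquivOfCardEq hc, trivial⟩
  have hord : orderOf lam₂ = q := orderOf_eq_prime h2q h2
  have hprim : IsPrimitiveRoot lam₂ q := hord ▸ IsPrimitiveRoot.orderOf lam₂
  haveI : NeZero q := ⟨hq.out.ne_zero⟩
  have hμ : (θ lam₁) ^ q = 1 := by rw [← map_pow, h1q, map_one]
  obtain ⟨k, hk, hkeq⟩ := hprim.eq_pow_of_pow_eq_one hμ
  refine ⟨θ, k, hkeq.symm, ?_⟩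
  apply Nat.Coprime.symm
  rw [Nat.Prime.coprime_iff_not_dvd hq.out]
  intro hd
  have hk0 : k = 0 := Nat.eq_zero_of_dvd_of_lt hd hk
  rw [hk0, pow_zero] at hkeq
  apply h1
  apply θ.injective
  rw [← hkeq, map_one]

end Cfsg.Agent.Lib.Helper20.UniMATCHF
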